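import Cfsg.Agent.Mrg.Omega.HTwo.Entry
import Cfsg.Agent.Mrg.Omega.HOne.SplitVQ
import Cfsg.Agent.Mrg.Omega.HOne.SplitP
import Cfsg.Agent.Mrg.Omega.MixOne.OfSplit
import Cfsg.Agent.Mrg.Omega.IId.SymWrD.Ht.Line
import Cfsg.Agent.Mrg.Omega.IId.SwCv.ConcNat
import Cfsg.Agent.Mrg.Omega.IId.Cv.SymBigPos
import Cfsg.Agent.Mrg.Omega.IId.Cv.SymPos
import Cfsg.Agent.Mrg.Omega.IId.ThmCD.Cor
import Cfsg.Agent.Mrg.Omega.IId.SMain
import Cfsg.Agent.Mrg.Omega.F4Leaf.Cen.Main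
import Cfsg.Agent.Mrg.Omega.HOneTwo.Basic
import Cfsg.Agent.Mrg.Omega.IId.SwCv.Lab
import Cfsg.Agent.Mrg.Omega.IId.Cv.MixSide
import Cfsg.Agent.Mrg.Omega.IId.Cv.MixAny
import Cfsg.Agent.Mrg.Omega.IId.SymHalf
import Cfsg.Agent.Mrg.Omega.IId.SymWrD.SylN.Base
import Cfsg.Agent.Mrg.Omega.IId.SymWrD.FOneAll
import Cfsg.Agent.Mrg.Omega.IId.SymWrD.Hw.Fw
import Cfsg.Agent.Mrg.Omega.IId.SymWrD.Ht.ZVD
import Cfsg.Agent.Mrg.Omega.Half.Basic
import Cfsg.Agent.Mrg.Omega.IId.SymWrD.Ht.LemJ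
import Cfsg.Agent.Mrg.Omega.IId.SymWrD.Ht.HatJ
import Cfsg.Agent.Mrg.Omega.IId.SymWrD.Ht.Fr
import Cfsg.Agent.Mrg.Omega.IId.SymWrD.SylN.OfFr
import Cfsg.Agent.Mrg.Omega.IId.SymWrD.Ht.LE

-- merged: Cfsg.Agent.Mrg.Omega.HTwo.Exit
section

/-!
# II.0h1, `q = 2`: the exit for every leaf

* `PosStmt0 K` : the statement on the position `HTwo.Entry.Pos` without `AllSingle`, `AllSplit`;
* `exists_pos0` : a non-free mutual pair of one type `(P, P)`, one natural factor, `q = 2`, gives `Pos`;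
* `exit_of` : a non-free mutual pair, both members with one natural factor and `q = 2`, gives `IsKnownSimple' G`.
-/

set_option autoImplicit false
set_option linter.unusedSectionVars false

namespace Cfsg.Agent.Omega.HTwo.Exit

open Subgroup Cfsg Cfsg.Agent.ZN Cfsg.Agent.Omega.MinPar
open Cfsg.Agent.MinSimple.VModule (oddGen zc_le_zl zc_sq le_normalizer_zl)
open Cfsg.Agent.Omega.NatPair (NatMod exists_ap ap)
open Cfsg.Agent.Omega.BTwo Cfsg.Agent.Omega.HOneTwo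
open Cfsg.Agent.Omega.FrameFF (cv NatOver)
open Cfsg.Agent.Omega.HOne
open Cfsg.Agent.Omega.HOne.Main (vx SplitPar NonFree)
open Cfsg.Agent.Omega.MixOne (Spl exists_spl exists_move noSame_of MixedW)
open Cfsg.Agent.Omega.Mix (RMod RMutual)
open Cfsg.Agent.Omega.Frame
open Cfsg.Agent.Omega.FrameLE (AllIn)
open Cfsg.Agent.Omega.HTwo.Entry (Pos)
open scoped Pointwise commutatorElement

universe u

/-- The statement on the position `Pos`, without `AllSingle` and `AllSplit`. -/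
def PosStmt0 (K : Cls.{u}) : Prop :=
  ∀ (G : Type u) [Group G] [Finite G], Ctx G → K G → ∀ (S : Sylow 2 G), Full (S : Subgroup G) →
    AllIn (S : Subgroup G) →
    ∀ (P V : Subgroup G) (ι : Type u) (R : ι → Subgroup G) (o : ι) (r z : G), Pos S P V R o r z →
      IsParS (S : Subgroup G) P →
      zl (S : Subgroup G) P = V ⊔ (zc (S : Subgroup G) ⊓ centralizer (P : Set G)) → IsKnownSimple' G

theorem PosStmt0.posStmt {K : Cls.{u}} (H : PosStmt0 K) : Entry.PosStmt K :=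
  fun G _ _ hG hK S hF hI _ _ P V ι R o r z p => H G hG hK S hF hI P V ι R o r z p

variable {G : Type u} [Group G]

/-- `HOne.Main.Same` without minimality -/
structure Sm (S P : Subgroup G) (g : G) {F : Type} [Field F] {N : Subgroup G} (M : NatMod F N) : Prop where
  star : IsParS S P
  N_eq : N = vx S P
  inf : N ⊓ cv S P = ⊥
  sup : N ⊔ cv S P = zl S P
  ne : cv S P ≠ ⊥
  cen : P ≤ centralizer (cv S P : Set G)
  le : P ≤ normalizer (N : Set G)
  lift : ∀ A : Matrix.SpecialLinearGroup (Fin 2) F, ∃ h ∈ P, M.Ind h A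
  pair : NatPair.Mutual N (NatPair.cj g N)
  VQ : N ≤ QQ (N ⊓ NatPair.cj g N)

variable [Finite G] {S : Sylow 2 G} {P : Subgroup G} {g : G} {F : Type} [Field F]

/-- **the normal form**, `q = 2` -/
theorem exists_sm [Finite F] [CharP F 2] (hc : IsCharacteristicTwoType G) (hnf : NonFree (S : Subgroup G) P P g)
    (M : NatOver F P (zl (S : Subgroup G) P) (cv (S : Subgroup G) P)) (h2 : Nat.card F = 2) :
    ∃ (y : G) (N : Subgroup G) (M' : NatMod F N), Sm (S : Subgroup G) P y M' := by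
  have h : IsParS (S : Subgroup G) P := hnf.mp.star₁
  have hsp : SplitPar (S : Subgroup G) P := splitPar_of_two hc S h M h2
  obtain ⟨y, hy1, hy2, v, hv, w, hw, hvw⟩ := exists_move S hc hnf.mp
  obtain ⟨K₁, M₁, s₁⟩ := exists_spl hc h M hsp
  have s₂ := s₁.conj y
  have hSP : (S : Subgroup G) ≤ P := h.le
  have hSP' : ((y • S : Sylow 2 G) : Subgroup G) ≤ cj y P := by
    rw [Mix.coe_smul_eq]; exact cj_mono hSP
  -- `N`, `N^y` do not commute
  obtain ⟨n, hn, d, hd, rfl⟩ := s₁.dec v hv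
  obtain ⟨n', hn', d', hd', rfl⟩ := s₂.dec w hw
  have c1 : ∀ z ∈ cj y (zl (S : Subgroup G) P), ∀ d ∈ cv (S : Subgroup G) P, d * z = z * d := fun z hz d hd =>
    mem_centralizer_iff.1 (s₁.cen (hSP (hy1 hz))) d hd
  have c2 : ∀ z ∈ zl (S : Subgroup G) P, ∀ d ∈ cj y (cv (S : Subgroup G) P), d * z = z * d := fun z hz d hd => by
    refine mem_centralizer_iff.1 (s₂.cen (hSP' ?_)) d hd
    rw [Mix.coe_smul_eq]; exact hy2 hz
  have hnn : n * n' ≠ n' * n := by
    intro h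
    apply hvw
    have e1 := c1 _ hw d hd
    have e2 := c2 n (s₁.NV hn) d' hd'
    calc n * d * (n' * d') = n * (d * (n' * d')) := by group
      _ = n * (n' * d' * d) := by rw [e1]
      _ = n * n' * d' * d := by group
      _ = n' * (n * d') * d := by rw [h]; group
      _ = n' * (d' * n) * d := by rw [e2]
      _ = n' * d' * (n * d) := by group
  rcases (preMod M hsp).dich S (hSP.trans (le_normalizer_vx _ _)) (fun s hs' => nm_of_mem M hsp (hSP hs')) with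
    hgood | hexc
  · refine ⟨y, vx (S : Subgroup G) P, (preMod M hsp).toNatMod hgood, ?_⟩
    have hmut : RMutual (vx (S : Subgroup G) P) (cj y (vx (S : Subgroup G) P)) K₁ (cj y K₁) :=
      ⟨(s₂.NV.trans hy1).trans (hSP.trans s₁.PK), (s₁.NV.trans hy2).trans (by
        have := hSP'.trans s₂.PK
        rwa [Mix.coe_smul_eq] at this), n, hn, n', hn', hnn⟩
    obtain ⟨-, u, u', hu, -, hl, -⟩ := Mix.pair M₁ (M₁.conj y) hmut
    obtain ⟨T₁, hT₁P, hT₁R⟩ := s₁.exists_sylow S hSP hu.ne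
    rw [← hl] at hT₁R
    have hR2 : IsPGroup 2 ↥(vx (S : Subgroup G) P ⊓ cj y (vx (S : Subgroup G) P)) :=
      s₁.N_pGroup.to_le inf_le_left
    have hR1 : vx (S : Subgroup G) P ⊓ cj y (vx (S : Subgroup G) P) ≠ ⊥ := by
      have h1 := M₁.line_ne_bot hu.ne
      rw [← hl] at h1
      exact h1
    have hVQ := s₁.V_le_Q hT₁P hu.ne (R := vx (S : Subgroup G) P ⊓ cj y (vx (S : Subgroup G) P)) hl hT₁R
      (Mix.char2_normalizer hc hR2 hR1)
    exact
      { star := h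
        N_eq := rfl
        inf := hsp
        sup := sup_eq M
        ne := hnf.ne₁
        cen := le_centralizer_cv hc S h M hsp
        le := le_normalizer_vx _ _
        lift := rmod_lift M hsp
        pair := ⟨((s₂.NV.trans hy1).trans hSP).trans (le_normalizer_vx _ _), by
          change _ ≤ normalizer (cj y _ : Set G)
          rw [BTwo.normalizer_cj]
          exact ((vx_le _ _).trans hy2).trans ((cj_mono hSP).trans (cj_mono (le_normalizer_vx _ _))),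
          n, hn, n', hn', hnn⟩
        VQ := (vx_le _ _).trans hVQ }
  · exfalso
    obtain ⟨w₀, r, E⟩ := excD_of S M hsp hexc
    have := E.card
    omega

namespace Sm

variable {N : Subgroup G} {M : NatMod F N} (h : Sm (S : Subgroup G) P g M)
include h

theorem S_le : (S : Subgroup G) ≤ P := h.star.le

theorem S_norm : (S : Subgroup G) ≤ normalizer (N : Set G) := h.S_le.trans h.le

theorem cv_le_zc (hG : IsCharacteristicTwoType G) : cv (S : Subgroup G) P ≤ zc (S : Subgroup G) := by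
  have hloc := h.star.isLoc
  have h1 : zl (S : Subgroup G) P ≤ (S : Subgroup G) :=
    ((hloc.zl_le S hG).trans (zc_le _)).trans (hloc.o2_le S)
  intro d hd
  have hd' : d ∈ zl (S : Subgroup G) P := hd.1
  rw [mem_zc]
  refine ⟨h1 hd', fun s hs => ?_, zc_sq _ _ (hloc.zl_le S hG hd')⟩
  exact (mem_centralizer_iff.1 (h.cen (h.S_le hs)) d hd).symm

/-- `V_P = N C_{V_P}(O²(P))` -/
theorem exists_mul_cv [Finite F] [CharP F 2] {v : G} (hv : v ∈ zl (S : Subgroup G) P) :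
    ∃ n ∈ N, ∃ d ∈ cv (S : Subgroup G) P, v = n * d := by
  rw [← h.sup] at hv
  have h3 : cv (S : Subgroup G) P ≤ normalizer (N : Set G) := by
    intro d hd
    have h4 : N ≤ P := by
      intro n hn
      exact h.S_le (HOneQ.V_le_S M S h.S_norm hn)
    refine centralizer_le_normalizer _ ?_
    rw [mem_centralizer_iff]
    exact fun n hn => (mem_centralizer_iff.1 (h.cen (h4 hn)) d hd).symm
  rw [← SetLike.mem_coe, coe_mul_of_right_le_normalizer_left _ _ h3] at hv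
  obtain ⟨n, hn, d, hd, rfl⟩ := hv
  exact ⟨n, hn, d, hd, rfl⟩

/-- `[P, Z] ≤ N` -/
theorem comm_zc [Finite F] [CharP F 2] {x z : G} (hx : x ∈ P) (hz : z ∈ zc (S : Subgroup G)) :
    x * z * x⁻¹ * z⁻¹ ∈ N := by
  obtain ⟨n, hn, d, hd, rfl⟩ := h.exists_mul_cv (zc_le_zl _ _ hz)
  have h1 : x * d = d * x := (mem_centralizer_iff.1 (h.cen hx) d hd).symm
  have h2 : x * (n * d) * x⁻¹ * (n * d)⁻¹ = x * n * x⁻¹ * n⁻¹ := by
    calc x * (n * d) * x⁻¹ * (n * d)⁻¹ = x * n * (d * x⁻¹) * d⁻¹ * n⁻¹ := by group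
      _ = x * n * (x⁻¹ * (x * d) * x⁻¹) * d⁻¹ * n⁻¹ := by group
      _ = x * n * (x⁻¹ * (d * x) * x⁻¹) * d⁻¹ * n⁻¹ := by rw [h1]
      _ = x * n * x⁻¹ * n⁻¹ := by group
  rw [h2]
  exact mul_mem (conj_mem_of_normalizer (h.le hx) hn) (inv_mem hn)

/-- **the entry to `HT`** -/
theorem exists_ht [Finite F] [CharP F 2] (hG : IsCharacteristicTwoType G) (hF : Nat.card F = 2) :
    ∃ o : Pt M, HT S P N (pt M) o := by
  obtain ⟨o, ho⟩ := HOneQ.exists_pt M S h.S_norm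
  refine ⟨o, { HOneQ.bts M S h.S_norm hG h.pair h.VQ with
    card_R := ?_, char2 := hG, S_V := h.S_norm, S_R := ho, S_P := h.S_le, P_V := h.le,
    P_trans := ?_, P_Z := fun x hx z hz => h.comm_zc hx hz }⟩
  · rintro ⟨_, w, hw, rfl⟩
    change Nat.card (M.line w) = 2
    rw [M.card_line hw, hF]
  · obtain ⟨_, w, hw, rfl⟩ := o
    rintro ⟨_, u, hu, rfl⟩
    obtain ⟨A, hA⟩ := exists_ap hw hu
    obtain ⟨l, hl, hlA⟩ := h.lift A
    refine ⟨l, hl, ?_⟩
    have := M.cj_line_of_ind hlA w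
    rw [hA] at this
    exact this

/-- `C_{V_P}(O²(P)) ≤ C_Z(P)` -/
theorem cv_le_cz (hG : IsCharacteristicTwoType G) :
    cv (S : Subgroup G) P ≤ zc (S : Subgroup G) ⊓ centralizer (P : Set G) :=
  le_inf (h.cv_le_zc hG) (le_centralizer_iff.1 h.cen)

/-- `C_Z(P) = C_{V_P}(O²(P))` -/
theorem cz_eq (hG : IsCharacteristicTwoType G) :
    zc (S : Subgroup G) ⊓ centralizer (P : Set G) = cv (S : Subgroup G) P := by
  refine le_antisymm ?_ (h.cv_le_cz hG)
  refine le_inf (inf_le_left.trans (zc_le_zl _ _)) (inf_le_right.trans (centralizer_le ?_))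
  exact Cfsg.Agent.MinSimple.VModule.oddGen_le P

theorem cz_ne (hG : IsCharacteristicTwoType G) :
    zc (S : Subgroup G) ⊓ centralizer (P : Set G) ≠ ⊥ := by
  rw [h.cz_eq hG]
  exact h.ne

/-- **the position** -/
theorem exists_pos [Finite F] [CharP F 2] (hG : IsCharacteristicTwoType G) (hF : Nat.card F = 2) :
    ∃ (o : Pt M) (r z : G), Pos S P N (pt M) o r z := by
  obtain ⟨o, b⟩ := h.exists_ht hG hF
  obtain ⟨r, h1, h2, h3⟩ := b.exists_gen o
  obtain ⟨⟨z, hz⟩, hz1⟩ := (Subgroup.ne_bot_iff_exists_ne_one).1 (h.cz_ne hG)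
  exact ⟨o, r, z, { b with r_ne := h1, r_sq := h2, r_iff := h3, z_mem := hz, z_ne := fun e => hz1 (Subtype.ext e) }⟩

end Sm

/-- **Exit for a pair of one type.** -/
theorem exit_same {K : Cls.{u}} (H : PosStmt0 K) (hG : Ctx G) (hK : K G) (hF : Full (S : Subgroup G))
    (hI : AllIn (S : Subgroup G)) (hnf : NonFree (S : Subgroup G) P P g) [Finite F] [CharP F 2]
    (M : NatOver F P (zl (S : Subgroup G) P) (cv (S : Subgroup G) P)) (h2 : Nat.card F = 2) :
    IsKnownSimple' G := by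
  obtain ⟨y, N, M', h⟩ := exists_sm hG.char2 hnf M h2
  obtain ⟨o, r, z, p⟩ := h.exists_pos hG.char2 h2
  refine H G hG hK S hF hI P N (Pt M') (pt M') o r z p h.star ?_
  rw [h.cz_eq hG.char2, h.sup]

/-- **Exit**: a mutual pair, both members not `Free`, with one natural factor and `q = 2`. -/
theorem exit_of {K : Cls.{u}} (H : PosStmt0 K) (hG : Ctx G) (hK : K G) (hF : Full (S : Subgroup G))
    (hI : AllIn (S : Subgroup G)) {P₁ P₂ : Subgroup G} {x : G} (h : NonFree (S : Subgroup G) P₁ P₂ x)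
    {F₁ F₂ : Type} [Field F₁] [Finite F₁] [CharP F₁ 2] [Field F₂] [Finite F₂] [CharP F₂ 2]
    (o₁ : NatOver F₁ P₁ (zl (S : Subgroup G) P₁) (cv (S : Subgroup G) P₁))
    (o₂ : NatOver F₂ P₂ (zl (S : Subgroup G) P₂) (cv (S : Subgroup G) P₂)) (h₁ : Nat.card F₁ = 2)
    (h₂ : Nat.card F₂ = 2) : IsKnownSimple' G := by
  have hc := hG.char2
  by_cases hno₁ : ∀ g : G, ¬ NonFree (S : Subgroup G) P₁ P₁ g
  swap
  · push Not at hno₁
    obtain ⟨g, hg⟩ := hno₁
    exact exit_same H hG hK hF hI hg o₁ h₁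
  by_cases hno₂ : ∀ g : G, ¬ NonFree (S : Subgroup G) P₂ P₂ g
  swap
  · push Not at hno₂
    obtain ⟨g, hg⟩ := hno₂
    exact exit_same H hG hK hF hI hg o₂ h₂
  exfalso
  have hs₁ := splitPar_of_two hc S h.mp.star₁ o₁ h₁
  have hs₂ := splitPar_of_two hc S h.mp.star₂ o₂ h₂
  obtain ⟨K₁, M₁, s₁⟩ := exists_spl hc h.mp.star₁ o₁ hs₁
  obtain ⟨K₂, M₂, s₂⟩ := exists_spl hc h.mp.star₂ o₂ hs₂
  obtain ⟨y, hy1, hy2, hy3⟩ := exists_move S hc h.mp
  have hS₂ : ((y • S : Sylow 2 G) : Subgroup G) ≤ cj y P₂ := by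
    rw [Mix.coe_smul_eq]; exact cj_mono h.mp.star₂.le
  have hn₁ := noSame_of h.mp.star₁ h.ne₁ hno₁
  have hn₂ := (noSame_of h.mp.star₂ h.ne₂ hno₂).conj y
  obtain ⟨k, -, T, hT1, hT2, hT3, m⟩ := s₁.mixedW (fun K h1 h2 => Mix.char2_normalizer hc h1 h2) (s₂.conj y) S
    (y • S) h.mp.star₁.le hS₂ hy1 (by rw [Mix.coe_smul_eq]; exact hy2) hy3 hn₁ hn₂
  obtain ⟨⟨d, hd⟩, hd1⟩ := Subgroup.ne_bot_iff_exists_ne_one.1 h.ne₁
  have hd1' : d ≠ 1 := fun h => hd1 (Subtype.ext h)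
  have hp : Fact (Nat.Prime 2) := ⟨Nat.prime_two⟩
  have h32 : 16 < Nat.card T := by
    have e1 : (2 : ℕ) ^ 5 ∣ Nat.card G := Cfsg.Agent.Omega.Exits.dvd_card hG.rank
    have e2 : (2 : ℕ) ^ 5 ∣ Nat.card T := T.pow_dvd_card_of_pow_dvd_card e1
    have e3 := Nat.le_of_dvd Nat.card_pos e2
    omega
  refine m.two_false h₁ (hT1.trans s₁.PK) (hT2.trans (s₂.conj y |>.conj k).PK) hT3 (z := d) ?_ ?_ h32
  · intro h5
    apply hd1'
    have h6 : d ∈ vx (S : Subgroup G) P₁ ⊓ cv (S : Subgroup G) P₁ := ⟨h5.1, hd⟩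
    rw [s₁.inf] at h6
    exact mem_bot.1 h6
  · intro t ht
    exact (mem_centralizer_iff.1 (s₁.cen (hT1 ht)) d hd).symm

end Cfsg.Agent.Omega.HTwo.Exit

end

-- merged: Cfsg.Agent.Mrg.Omega.IId.SwCv.Cut
section

section


/-!
# II.d, `SwCv K`: the cut (helper79)

`P` has `k ≥ 2` factors `S_{2^m+1}`, `V_P = A × D`, `D = C_V(O²(P)) ≠ 1`; F1 (`FOne`, helper573) and the entry
`[V, V'] = ⟨n⟩`, `n` a duad (`TT`, helper971; `TN`, helper714) are plugged.  `Pure V n` : `V` does not commute with all its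
conjugates under `C_G(n)`.  Sockets:

* `SwTT` : `Pure V n` (the core, T-T), over helper916's frame `SymWrD.Ht.Fr`; `swTT_of` : from `SwTTSyl` (`C_S(n)` is a
  Sylow 2-subgroup of `C_G(n)`) and `SwTTNon` (it is not, for any duad `n`);
* `SwMixNatOne`, `SwMixNat` : `P'` natural, `k' = 1`, `k' ≥ 2`, both sides mixed;
* `SwMixSymOne`, `SwMixSym` : `P'` of type `S_{2^m'+1}`, `k' = 1`, `k' ≥ 2`, both sides mixed;
* `TTPair K`, `PosExit`, the unmixed sockets of `WrCvN` (`q = 2`), `FreeFour K`.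

`freeFour_of` : `FreeFour K` (there is a `Free` pair with `k ≥ 2` natural factors, `|Z(S)| ≥ 4`) from the sockets of
`LeafWr` (natural factors).
-/

set_option autoImplicit false
set_option linter.unusedSectionVars false

namespace Cfsg.Agent.Omega.IId.SwCvC

open Subgroup Pointwise Cfsg
open Cfsg.Agent.ZN.ChoiceBase hiding mem_zc
open Cfsg.Agent.ZN (o2 zc zl)
open Cfsg.Agent.Omega.MinPar Cfsg.Agent.Omega.Frame Cfsg.Agent.Omega.FFThm Cfsg.Agent.Omega.FrameMulti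
open Cfsg.Agent.Omega.FrameFF (cv Free)
open Cfsg.Agent.Omega.FrameLE (AllIn)
open Cfsg.Agent.Omega.HOne.Main (vx SplitPar NonFree)
open Cfsg.Agent.Omega.Half.SymA (Pt E)
open Cfsg.Agent.Omega.IId.SwCv (Lb du FOne TT TN)
open Cfsg.Agent.Omega.IId.Cv (NoFree HypN UnM TTPair)
open Cfsg.Agent.Omega.IId.SymWrD (pr pp Fours SitD)
open Cfsg.Agent.MinSimple.VModule (mem_zc le_normalizer_o2 o2_isPGroup o2_le le_normalizer_zl)

universe u

/-- `V` does not commute with all its conjugates under `C_G(n)`. -/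
def Pure {G : Type u} [Group G] (V : Subgroup G) (n : G) : Prop :=
  ∃ t ∈ centralizer ({n} : Set G), ∃ v ∈ V, ∃ w ∈ V, v * (t * w * t⁻¹) ≠ t * w * t⁻¹ * v

/-! ### The sockets -/

section sockets

variable (K : Cls.{u})

/-- **T-T** (the core). -/
def SwTT : Prop :=
  ∀ (G : Type u) [Group G] [Finite G] (S : Sylow 2 G), HypN K S → ∀ (P : Subgroup G) (k m : ℕ)
    (M : SymK (S : Subgroup G) P (zl (S : Subgroup G) P) (cv (S : Subgroup G) P) k m)
    (ε : Fin k → (Fin (2 ^ m + 1) → ZMod 2) → G) (hL : Lb M ε), 2 ≤ k → 2 ≤ m → IsParS (S : Subgroup G) P →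
      FOne M ε → cv (S : Subgroup G) P ≠ ⊥ →
      SymWrD.Ht.Fr S P hL.A (cv (S : Subgroup G) P) hL.toBot → IsKnownSimple' G

/-- T-T, `C_S(n)` is a Sylow 2-subgroup of `C_G(n)` for the duad `n = {x, μ x}`. (helper916, 290, 123, 926, 334) -/
def SwTTSyl : Prop :=
  ∀ (G : Type u) [Group G] [Finite G] (S : Sylow 2 G), HypN K S → ∀ (P : Subgroup G) (k m : ℕ)
    (M : SymK (S : Subgroup G) P (zl (S : Subgroup G) P) (cv (S : Subgroup G) P) k m)
    (ε : Fin k → (Fin (2 ^ m + 1) → ZMod 2) → G) (hL : Lb M ε), 2 ≤ k → 2 ≤ m → IsParS (S : Subgroup G) P →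
      FOne M ε → cv (S : Subgroup G) P ≠ ⊥ →
      SymWrD.Ht.Fr S P hL.A (cv (S : Subgroup G) P) hL.toBot →
      ∀ (μ ν : Equiv.Perm (Pt k m)) (_ : Fours hL.toBot μ ν) (x : Pt k m), x.2 ≠ 0 →
        ¬ 2 ∣ (SymWrD.Ht.tn S hL.toBot μ x).relIndex (centralizer ({pr hL.toBot x (μ x)} : Set G)) → False

/-- T-T, `C_S(n)` is not a Sylow 2-subgroup of `C_G(n)`, `n = {x, μ x}`. (helper644 #21574 for `k = m = 2`; helper714,
helper971) -/
def SwTTNon : Prop :=
  ∀ (G : Type u) [Group G] [Finite G] (S : Sylow 2 G), HypN K S → ∀ (P : Subgroup G) (k m : ℕ)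
    (M : SymK (S : Subgroup G) P (zl (S : Subgroup G) P) (cv (S : Subgroup G) P) k m)
    (ε : Fin k → (Fin (2 ^ m + 1) → ZMod 2) → G) (hL : Lb M ε), 2 ≤ k → 2 ≤ m → IsParS (S : Subgroup G) P →
      FOne M ε → cv (S : Subgroup G) P ≠ ⊥ →
      SymWrD.Ht.Fr S P hL.A (cv (S : Subgroup G) P) hL.toBot →
      (∀ (μ ν : Equiv.Perm (Pt k m)) (_ : Fours hL.toBot μ ν) (x : Pt k m), x.2 ≠ 0 →
        2 ∣ (SymWrD.Ht.tn S hL.toBot μ x).relIndex (centralizer ({pr hL.toBot x (μ x)} : Set G))) →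
      IsKnownSimple' G

/-- Natural partner, `k' = 1`, mixed. (helper48 #20133) -/
def SwMixNatOne : Prop :=
  ∀ (G : Type u) [Group G] [Finite G] (S S' : Sylow 2 G), HypN K S → ∀ (P P' : Subgroup G) (k m : ℕ)
    (M : SymK (S : Subgroup G) P (zl (S : Subgroup G) P) (cv (S : Subgroup G) P) k m)
    (ε : Fin k → (Fin (2 ^ m + 1) → ZMod 2) → G), Lb M ε → 2 ≤ k → 2 ≤ m → FOne M ε →
      cv (S : Subgroup G) P ≠ ⊥ → cv (S' : Subgroup G) P' ≠ ⊥ →
      ∀ (F' : Type) [Field F'] [Finite F'] [CharP F' 2]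
        (N : NatD F' S' P' (vx (S' : Subgroup G) P') (cv (S' : Subgroup G) P') 1) (i : Fin k) (a b : Fin (2 ^ m + 1))
        (i' : Fin 1), TN S S' P P' M ε N i a b i' → ¬ Pure (zl (S : Subgroup G) P) (du ε i a b) → ¬ UnM N i' →
          IsKnownSimple' G

/-- Natural partner, `k' ≥ 2`, mixed. (helper639 #20226) -/
def SwMixNat : Prop :=
  ∀ (G : Type u) [Group G] [Finite G] (S S' : Sylow 2 G), HypN K S → ∀ (P P' : Subgroup G) (k m : ℕ)
    (M : SymK (S : Subgroup G) P (zl (S : Subgroup G) P) (cv (S : Subgroup G) P) k m)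
    (ε : Fin k → (Fin (2 ^ m + 1) → ZMod 2) → G), Lb M ε → 2 ≤ k → 2 ≤ m → FOne M ε →
      cv (S : Subgroup G) P ≠ ⊥ → cv (S' : Subgroup G) P' ≠ ⊥ →
      ∀ (F' : Type) [Field F'] [Finite F'] [CharP F' 2] (k' : ℕ)
        (N : NatD F' S' P' (vx (S' : Subgroup G) P') (cv (S' : Subgroup G) P') k'), 2 ≤ k' →
        (∀ l, NV.QL N l ≤ (S' : Subgroup G)) → ∀ (i : Fin k) (a b : Fin (2 ^ m + 1))
        (i' : Fin k'), TN S S' P P' M ε N i a b i' → ¬ Pure (zl (S : Subgroup G) P) (du ε i a b) → ¬ UnM N i' →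
          IsKnownSimple' G

/-- Partner of type `S_{2^m'+1}`, one factor, mixed. -/
def SwMixSymOne : Prop :=
  ∀ (G : Type u) [Group G] [Finite G] (S S' : Sylow 2 G), HypN K S → ∀ (P P' : Subgroup G) (k m m' : ℕ)
    (M : SymK (S : Subgroup G) P (zl (S : Subgroup G) P) (cv (S : Subgroup G) P) k m)
    (M' : SymK (S' : Subgroup G) P' (zl (S' : Subgroup G) P') (cv (S' : Subgroup G) P') 1 m')
    (ε : Fin k → (Fin (2 ^ m + 1) → ZMod 2) → G) (ε' : Fin 1 → (Fin (2 ^ m' + 1) → ZMod 2) → G), Lb M ε → Lb M' ε' →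
      2 ≤ k → 2 ≤ m → 2 ≤ m' → FOne M ε → FOne M' ε' → cv (S : Subgroup G) P ≠ ⊥ → cv (S' : Subgroup G) P' ≠ ⊥ →
      ∀ (i : Fin k) (a b : Fin (2 ^ m + 1)) (i' : Fin 1) (a' b' : Fin (2 ^ m' + 1)),
        TT S S' P P' M M' ε ε' i a b i' a' b' → ¬ Pure (zl (S : Subgroup G) P) (du ε i a b) →
        ¬ Pure (zl (S' : Subgroup G) P') (du ε i a b) → IsKnownSimple' G

/-- Partner of type `S_{2^m'+1}`, `k' ≥ 2` factors, mixed. -/
def SwMixSym : Prop :=
  ∀ (G : Type u) [Group G] [Finite G] (S S' : Sylow 2 G), HypN K S → ∀ (P P' : Subgroup G) (k m k' m' : ℕ)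
    (M : SymK (S : Subgroup G) P (zl (S : Subgroup G) P) (cv (S : Subgroup G) P) k m)
    (M' : SymK (S' : Subgroup G) P' (zl (S' : Subgroup G) P') (cv (S' : Subgroup G) P') k' m')
    (ε : Fin k → (Fin (2 ^ m + 1) → ZMod 2) → G) (ε' : Fin k' → (Fin (2 ^ m' + 1) → ZMod 2) → G), Lb M ε →
      Lb M' ε' → 2 ≤ k → 2 ≤ m → 2 ≤ k' → 2 ≤ m' → FOne M ε → FOne M' ε' → cv (S : Subgroup G) P ≠ ⊥ →
      cv (S' : Subgroup G) P' ≠ ⊥ →
      ∀ (i : Fin k) (a b : Fin (2 ^ m + 1)) (i' : Fin k') (a' b' : Fin (2 ^ m' + 1)),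
        TT S S' P P' M M' ε ε' i a b i' a' b' → ¬ Pure (zl (S : Subgroup G) P) (du ε i a b) →
        ¬ Pure (zl (S' : Subgroup G) P') (du ε i a b) → IsKnownSimple' G

/-- `|Ω₁Z(S)| ≥ 4`, there is a mutual pair with a member with `k ≥ 2` natural factors, both members `Free`. -/
def FreeFour : Prop :=
  ∀ (G : Type u) [Group G] [Finite G] (S : Sylow 2 G), Hyp K S → 4 ≤ Nat.card (zc (S : Subgroup G)) →
    ¬ NoFree (S : Subgroup G) → IsKnownSimple' G

/-- `V'_{i'}` unmixed, `q = 2`, `k' ≥ 1`, `D' ≠ 1`. -/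
def NatUn : Prop :=
  ∀ (G : Type u) [Group G] [Finite G] (S : Sylow 2 G), HypN K S →
    ∀ (P : Subgroup G) (F : Type) [Field F] [Finite F] [CharP F 2] (k : ℕ)
      (M₀ : NatK F (S : Subgroup G) P (zl (S : Subgroup G) P) (cv (S : Subgroup G) P) k)
      (M : NatD F S P (vx (S : Subgroup G) P) (cv (S : Subgroup G) P) k), 1 ≤ k → Nat.card F = 2 →
      cv (S : Subgroup G) P ≠ ⊥ → ∀ i, UnM M i → IsKnownSimple' G

end sockets

theorem swTT_of {K : Cls.{u}} (h1 : SwTTSyl K) (h2 : SwTTNon K) : SwTT K := by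
  intro G _ _ S hH P k m M ε hL hk hm hP hF hD hFr
  by_cases h : ∃ (μ ν : Equiv.Perm (Pt k m)) (_ : Fours hL.toBot μ ν) (x : Pt k m), x.2 ≠ 0 ∧
      ¬ 2 ∣ (SymWrD.Ht.tn S hL.toBot μ x).relIndex (centralizer ({pr hL.toBot x (μ x)} : Set G))
  · obtain ⟨μ, ν, F, x, hx, hs⟩ := h
    exact (h1 G S hH P k m M ε hL hk hm hP hF hD hFr μ ν F x hx hs).elim
  · push Not at h
    exact h2 G S hH P k m M ε hL hk hm hP hF hD hFr h

/-! ### The counts -/

section count

variable {G : Type u} [Group G] [Finite G] {S : Sylow 2 G} {P : Subgroup G} {k m : ℕ}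
  {M : SymK (S : Subgroup G) P (zl (S : Subgroup G) P) (cv (S : Subgroup G) P) k m}
  {ε : Fin k → (Fin (2 ^ m + 1) → ZMod 2) → G}

theorem cv_le_zc (hL : Lb M ε) : cv (S : Subgroup G) P ≤ zc (S : Subgroup G) := by
  intro d hd
  exact mem_zc.2 ⟨hL.VT (hL.DV hd), fun s hs => hL.cen s (hL.TH hs) d hd, hL.sq d (hL.DV hd)⟩

/-- `|Ω₁Z(S)| ≤ 2` if `D = 1` -/
theorem zc_le_two (hG : IsCharacteristicTwoType G) (hP : IsParS (S : Subgroup G) P) (hL : Lb M ε) (hk : 0 < k)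
    (hm : 2 ≤ m) (hD : cv (S : Subgroup G) P = ⊥) : Nat.card (zc (S : Subgroup G)) ≤ 2 := by
  have h := SymWrD.sitD_of_lb hG hP hL hk hm
  have hA : zc (S : Subgroup G) ≤ hL.A := by
    intro z hz
    obtain ⟨d, hd, e⟩ := hL.dec (Cfsg.Agent.ZN.ChoiceSit.zc_le_zl _ _ hz)
    rw [hD, mem_bot] at hd
    rw [e, hd, one_mul]
    exact hL.pl_mem_A _
  have hm1 : 1 ≤ m := by omega
  have h01 : (1 : Fin (2 ^ m + 1)) ≠ 0 := by
    have : Nontrivial (Fin (2 ^ m + 1)) := Fin.nontrivial_iff_two_le.2 (by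
      have := Nat.one_le_two_pow (n := m); omega)
    exact one_ne_zero
  have hconst : ∀ z ∈ zc (S : Subgroup G), ∀ p q : Pt k m, p.2 ≠ 0 → q.2 ≠ 0 →
      E hL.toBot z p = E hL.toBot z q := by
    intro z hz p q hp hq
    obtain ⟨s, hs, h1⟩ := h.toSit.trans hp hq
    have h2 := SymWrD.E_conj (M := hL.toBot) (h.toSit.SP hs) (hA hz) p
    rw [(mem_zc.1 hz).2.1 s hs, mul_inv_cancel_right, h1] at h2
    exact h2.symm
  let p₀ : Pt k m := (⟨0, hk⟩, 1)
  have hinj : Function.Injective fun z : zc (S : Subgroup G) => E hL.toBot (z : G) p₀ := by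
    intro z w hzw
    apply Subtype.ext
    refine Half.SymA.inj hL.toBot (hA z.2) (hA w.2) ?_
    have h2 : ∀ p : Pt k m, p.2 ≠ 0 → E hL.toBot z p = E hL.toBot w p := fun p hp => by
      rw [hconst z z.2 p p₀ hp h01, hconst w w.2 p p₀ hp h01]
      exact hzw
    intro p
    by_cases hp : p.2 = 0
    · have h3 := Half.SymA.even0 hL.toBot hm1 (hA z.2) (i := p.1) (c := E hL.toBot (z : G) p₀) fun x hx =>
        hconst z z.2 (p.1, x) p₀ hx h01
      have h3' := Half.SymA.even0 hL.toBot hm1 (hA w.2) (i := p.1) (c := E hL.toBot (w : G) p₀) fun x hx =>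
        hconst w w.2 (p.1, x) p₀ hx h01
      have h4 : p = (p.1, 0) := Prod.ext rfl hp
      rw [h4, h3, h3']
    · exact h2 p hp
  have h2 := Nat.card_le_card_of_injective _ hinj
  rwa [Nat.card_eq_fintype_card (α := ZMod 2), ZMod.card] at h2

/-- `|Ω₁Z(S)| ≥ 4` if `D ≠ 1` -/
theorem four_le_zc (hL : Lb M ε) (hk : 0 < k) (hD : cv (S : Subgroup G) P ≠ ⊥) :
    4 ≤ Nat.card (zc (S : Subgroup G)) := by
  classical
  have h01 : (1 : Fin (2 ^ m + 1)) ≠ 0 := by
    have : Nontrivial (Fin (2 ^ m + 1)) := Fin.nontrivial_iff_two_le.2 (by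
      have := Nat.one_le_two_pow (n := m); omega)
    exact one_ne_zero
  -- all letters except `0`
  let y : Fin k → Fin (2 ^ m + 1) → ZMod 2 := fun _ => 1 + Pi.single 0 1
  have hfix : ∀ s ∈ (S : Subgroup G), s * hL.pl y * s⁻¹ = hL.pl y := by
    intro s hs
    obtain ⟨σ, τ, ha⟩ := M.perm s (hL.TH hs)
    have h0 := M.fix0 s hs σ τ ha
    rw [hL.conj_pl (hL.TH hs) ha]
    congr 1
    funext j
    funext x
    change (1 + Pi.single 0 1 : Fin (2 ^ m + 1) → ZMod 2) ((τ (σ.symm j)).symm x) =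
      (1 + Pi.single 0 1 : Fin (2 ^ m + 1) → ZMod 2) x
    have h1 : (τ (σ.symm j)).symm x = 0 ↔ x = 0 := by
      rw [Equiv.symm_apply_eq, h0]
    simp only [Pi.add_apply, Pi.one_apply, Pi.single_apply, h1]
  have hz : hL.pl y ∈ zc (S : Subgroup G) := by
    refine mem_zc.2 ⟨hL.VT (hL.pl_mem y), fun s hs => ?_, hL.sq _ (hL.pl_mem y)⟩
    have := hfix s hs
    exact mul_inv_eq_iff_eq_mul.1 this
  have hne : hL.pl y ∉ cv (S : Subgroup G) P := by
    intro h1
    have h2 := (M.ker _ (hL.pl_mem y)).2 h1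
    rw [hL.e_pl] at h2
    have h3 := congrFun (congrFun h2 ⟨0, hk⟩) 1
    have hsum : ∑ x, (y ⟨0, hk⟩) x = 0 := by
      change ∑ x, (1 + Pi.single 0 1 : Fin (2 ^ m + 1) → ZMod 2) x = 0
      simp only [Pi.add_apply, Pi.one_apply, Finset.sum_add_distrib, Finset.sum_const, Finset.card_univ,
        Fintype.card_fin, Finset.sum_pi_single', Finset.mem_univ, if_true]
      have h5 : 1 ≤ m := hL.hm
      obtain ⟨r, rfl⟩ : ∃ r, m = r + 1 := ⟨m - 1, by omega⟩
      have h6 : (2 : ZMod 2) = 0 := by decide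
      have h7 : ((2 ^ (r + 1) + 1) • (1 : ZMod 2)) + 1 = (2 : ZMod 2) * (2 ^ r + 1) := by
        rw [nsmul_eq_mul, mul_one]; push_cast; ring
      rw [h7, h6, zero_mul]
    rw [Lb.hat_even hsum] at h3
    have h4 : (1 + Pi.single 0 1 : Fin (2 ^ m + 1) → ZMod 2) 1 = 0 := h3
    rw [Pi.add_apply, Pi.one_apply, Pi.single_eq_of_ne h01, add_zero] at h4
    exact one_ne_zero h4
  have h1 : Nat.card (cv (S : Subgroup G) P) ∣ Nat.card (zc (S : Subgroup G)) :=
    Subgroup.card_dvd_of_le (cv_le_zc hL)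
  have h2 : 1 < Nat.card (cv (S : Subgroup G) P) := (Subgroup.one_lt_card_iff_ne_bot _).2 hD
  obtain ⟨c, hc⟩ := h1
  have h3 : c ≠ 1 := by
    rintro rfl
    rw [mul_one] at hc
    have h4 := Subgroup.eq_of_le_of_card_ge (cv_le_zc hL) (by rw [hc])
    exact hne (h4.ge hz)
  have h5 : c ≠ 0 := by
    rintro rfl
    rw [mul_zero] at hc
    exact absurd hc Nat.card_pos.ne'
  rw [hc]
  have h6 : 2 ≤ c := by omega
  nlinarith

end count

/-! ### Mutual pairs from `Pure` -/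

section pure

variable {G : Type u} [Group G] [Finite G] {S : Sylow 2 G} {P : Subgroup G} {k m : ℕ}
  {M : SymK (S : Subgroup G) P (zl (S : Subgroup G) P) (cv (S : Subgroup G) P) k m}
  {ε : Fin k → (Fin (2 ^ m + 1) → ZMod 2) → G}

theorem o2_le_P (hG : IsCharacteristicTwoType G) (hP : IsParS (S : Subgroup G) P) (hL : Lb M ε) (hk : 0 < k)
    (hm : 2 ≤ m) {i : Fin k} {a b : Fin (2 ^ m + 1)} (hab : a ≠ b) :
    o2 (centralizer ({du ε i a b} : Set G)) ≤ P := by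
  intro x hx
  rw [SymWrD.du_eq_pr hL i a b] at hx
  have hne : ((i, a) : Pt k m) ≠ (i, b) := fun h0 => hab (congrArg Prod.snd h0)
  exact (SymWrD.L_dat (SymWrD.sitD_of_lb hG hP hL hk hm) (p := (i, a)) (q := (i, b)) rfl hne x hx).1

theorem conj_mem_o2 {n g x : G} (hg : g ∈ centralizer ({n} : Set G)) (hx : x ∈ o2 (centralizer ({n} : Set G))) :
    g * x * g⁻¹ ∈ o2 (centralizer ({n} : Set G)) :=
  (mem_normalizer_iff.1 (le_normalizer_o2 _ hg) x).1 hx

/-- `Pure V n` : a mutual pair -/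
theorem mutual_of_pure (hG : IsCharacteristicTwoType G) (hP : IsParS (S : Subgroup G) P) (hL : Lb M ε) (hk : 0 < k)
    (hm : 2 ≤ m) (hF : FOne M ε) {i : Fin k} {a b : Fin (2 ^ m + 1)} (hab : a ≠ b)
    (hp : Pure (zl (S : Subgroup G) P) (du ε i a b)) : ∃ g, Mutual (S : Subgroup G) P P g := by
  obtain ⟨t, ht, v, hv, w, hw, hne⟩ := hp
  have hle := hF.le i a b hab
  have hQ := o2_le_P hG hP hL hk hm (i := i) hab
  have hz : P ≤ normalizer (zl (S : Subgroup G) P : Set G) := le_normalizer_zl _ _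
  have hgQ : cj t (o2 (centralizer ({du ε i a b} : Set G))) = o2 (centralizer ({du ε i a b} : Set G)) :=
    cj_eq_of_mem_normalizer (le_normalizer_o2 _ ht)
  refine ⟨t, hP, hP, ?_, ?_, ?_⟩
  · change _ ≤ normalizer ((cj t (zl (S : Subgroup G) P) : Subgroup G) : Set G)
    rw [← cj_normalizer]
    refine hle.trans ?_
    rw [← hgQ]
    exact cj_mono t (hQ.trans hz)
  · change cj t (zl (S : Subgroup G) P) ≤ _
    have := cj_mono t hle
    rw [hgQ] at this
    exact this.trans (hQ.trans hz)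
  · intro h0
    rw [commutator_eq_bot_iff_le_centralizer] at h0
    have h1 : t * w * t⁻¹ ∈ cj t (zl (S : Subgroup G) P) := by
      rw [mem_cj_iff]
      have e : t⁻¹ * (t * w * t⁻¹) * t = w := by group
      rw [e]
      exact hw
    exact hne (mem_centralizer_iff.1 (h0 hv) _ h1).symm

/-- the frame of helper916 from `Pure V n` -/
theorem fr_of_pure (hG : IsCharacteristicTwoType G) (hP : IsParS (S : Subgroup G) P) (hL : Lb M ε) (hk : 0 < k)
    (hm : 2 ≤ m) (hF : FOne M ε) {i : Fin k} {a b : Fin (2 ^ m + 1)} (hab : a ≠ b)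
    (hp : Pure (zl (S : Subgroup G) P) (du ε i a b)) :
    SymWrD.Ht.Fr S P hL.A (cv (S : Subgroup G) P) hL.toBot := by
  refine SymWrD.Ht.Fr.of_sitD (SymWrD.sitD_of_lb hG hP hL hk hm) hG
    ⟨(i, a), (i, b), rfl, fun h0 => hab (congrArg Prod.snd h0), ?_⟩
  rw [← SymWrD.du_eq_pr hL i a b]
  obtain ⟨t, ht, v, hv, w, hw, hne⟩ := hp
  have hle := hF.le i a b hab
  have hQ := o2_le_P hG hP hL hk hm (i := i) hab
  obtain ⟨d, hd, e⟩ := hL.dec hv
  obtain ⟨d', hd', e'⟩ := hL.dec hw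
  refine ⟨t, ht, _, hL.pl_mem_A (M.e v), _, hL.pl_mem_A (M.e w), fun hcon => hne ?_⟩
  set x := hL.pl (M.e v) with hx
  set y := hL.pl (M.e w) with hy
  have hxV : x ∈ zl (S : Subgroup G) P := hL.pl_mem _
  have hyV : y ∈ zl (S : Subgroup G) P := hL.pl_mem _
  -- `d` commutes with `t w t⁻¹`
  have h1 : d * (t * w * t⁻¹) = t * w * t⁻¹ * d := (hL.cen _ (hQ (conj_mem_o2 ht (hle hw))) d hd).symm
  -- `x` commutes with `t d' t⁻¹`
  have h2 : x * (t * d' * t⁻¹) = t * d' * t⁻¹ * x := by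
    have h3 := hL.cen _ (hQ (conj_mem_o2 (inv_mem ht) (hle hxV))) d' hd'
    rw [inv_inv] at h3
    calc x * (t * d' * t⁻¹) = t * (t⁻¹ * x * t * d') * t⁻¹ := by group
      _ = t * (d' * (t⁻¹ * x * t)) * t⁻¹ := by rw [h3]
      _ = t * d' * t⁻¹ * x := by group
  have e1 : t * w * t⁻¹ = t * d' * t⁻¹ * (t * y * t⁻¹) := by rw [e']; group
  calc v * (t * w * t⁻¹) = d * (x * (t * w * t⁻¹)) := by rw [e, mul_assoc]
    _ = d * (x * (t * d' * t⁻¹) * (t * y * t⁻¹)) := by rw [e1, ← mul_assoc x]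
    _ = d * (t * d' * t⁻¹ * (x * (t * y * t⁻¹))) := by rw [h2, mul_assoc]
    _ = d * (t * w * t⁻¹) * x := by rw [hcon, e1]; group
    _ = t * w * t⁻¹ * v := by rw [h1, e, mul_assoc]

end pure

/-! ### The unmixed natural side -/

theorem natUn_of {K : Cls.{u}} (hX : F4Leaf.Cen.Main.PosExit.{u}) (h1 : Cv.CvOneA2 K) (h3 : Cv.CvTwoA K)
    (h4 : Cv.CvTwoB K) (hB : Cv.BigIn K) : NatUn K := by
  intro G _ _ S hHN P F _ _ _ k M₀ M hk hF hD i hu
  have hH := hHN.toHyp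
  have hPS : HTwo.Exit.PosStmt0 K := fun G _ _ hG _ S hF hI P V ι R o r z p _ _ => hX G hG S hF hI P V ι R o r z p
  rcases Nat.lt_or_ge k 2 with h | h
  · obtain rfl : k = 1 := by omega
    obtain ⟨g, hg⟩ := Cv.mutual_big M (fun l => NV.hC_one M l) hu
    exact HTwo.Exit.exit_same hPS hH.ctx hH.cls hH.full hH.allIn ⟨hg, hD, hD⟩ M₀.natOver hF
  rcases Nat.lt_or_ge 2 k with h' | h'
  · exact Cv.unM_big hB hHN M h' (fun l => Cv.SymD.hC_two M hF l) i hD hu
  obtain rfl : k = 2 := le_antisymm h' h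
  by_cases hd : 2 ∣ (NV.stab M.toNatV i).relIndex (normalizer (NV.line M.toNatV i : Set G))
  · by_cases hT : ∃ T₁ : Sylow 2 G, NV.stab M.toNatV i ≤ T₁ ∧
        (T₁ : Subgroup G) ≤ normalizer (NV.fac M.toNatV i : Set G) ⊓ normalizer (NV.line M.toNatV i : Set G)
    · obtain ⟨T₁, h5, h6⟩ := hT
      exact h4 G S hHN P F _ _ M i hD hu T₁ h5 h6
    · exact (h3 G S hHN P F _ _ M i hD hu hd hT).elim
  · exact (h1 G S hHN P F _ _ M i hD hu hd hF).elim

/-! ### A `Free` pair with `k ≥ 2` natural factors -/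

/-- `FreeFour K` from the sockets of `LeafWr` for natural factors, `q ≥ 4`. -/
theorem freeFour_of {K : Cls.{u}} (h3 : WrTwo K) (h4 : WrBig K) (h5 : WrTri K) (h7 : Cv.WrMain4N K) :
    FreeFour K := by
  intro G _ _ S hH hz hnf
  have hG := hH.ctx
  unfold Cv.NoFree at hnf
  push Not at hnf
  obtain ⟨P₁, P₂, x, hm, k, hk, hN, f1, f2'⟩ := hnf
  obtain ⟨y, hm', hp⟩ := exists_pair hG.char2 S hm
  have f2 : Free ((sy y S : Sylow 2 G) : Subgroup G) (cj y P₂) := by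
    rw [sy_coe]
    exact (Cv.free_cj y).2 f2'
  have hT2 : Typed (S : Subgroup G) P₂ := (hH.typed P₁ P₂ x hm).2
  have hT2' : Typed ((sy y S : Sylow 2 G) : Subgroup G) (cj y P₂) := by
    rw [sy_coe]
    exact typed_cj hT2 y
  rcases hT2'.cases with ⟨k', hk', hN'⟩ | ⟨k', m', hk', hm', ⟨M'⟩⟩
  · obtain ⟨F, i1, i2, i3, ⟨M⟩⟩ := hN
    obtain ⟨F', i1', i2', i3', ⟨M'⟩⟩ := hN'
    rw [show cv (S : Subgroup G) P₁ = ⊥ from f1] at M
    rw [show cv ((sy y S : Sylow 2 G) : Subgroup G) (cj y P₂) = ⊥ from f2] at M'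
    have hq : 4 ≤ Nat.card F := hz.trans (Cv.card_zc_le M ⟨0, by omega⟩)
    by_cases hc : Nat.card ↥⁅zl (S : Subgroup G) P₁, zl ((sy y S : Sylow 2 G) : Subgroup G) (cj y P₂)⁆ =
        Nat.card F
    · by_cases hb : 2 < k ∨ 2 < k'
      · exact h4 G S (sy y S) hH P₁ (cj y P₂) hp F F' k k' M M' hk hk' hb hc
      · push Not at hb
        obtain rfl : k = 2 := le_antisymm hb.1 hk
        obtain ⟨I, hI⟩ := IId.exists_ind M hp.le (hp.off hG.char2 hT2'.noOver)
        obtain ⟨i, -, hi⟩ := hI.eq_line (hp.le.trans hm.star₁.le) hc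
        by_cases hd : 2 ∣ (IId.stab M i).relIndex (normalizer (IId.line M i : Set G))
        · exact h5 G S (sy y S) hH P₁ (cj y P₂) hp F F' k' M M' hk' hb.2 i hi hd
        · exact (h7 G S (sy y S) hH P₁ (cj y P₂) hp F F' k' M M' hk' hb.2 i hi hd hq).elim
    · exact (h3 G S (sy y S) hH P₁ (cj y P₂) hp F F' k k' M M' hk hk' hc).elim
  · exfalso
    obtain ⟨ε, hL⟩ := SwCv.exists_lb hG.char2 (sy y S) hp.star' (by omega) (by omega) M'
    have h1 := zc_le_two hG.char2 hp.star' hL (by omega) hm' f2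
    have h2 : Nat.card (zc ((sy y S : Sylow 2 G) : Subgroup G)) = Nat.card (zc (S : Subgroup G)) := by
      refine Half.card_zc_of_card_eq S (sy y S).isPGroup' ?_
      rw [S.card_eq_multiplicity, (sy y S).card_eq_multiplicity]
    omega

/-! ### The cut -/

/-- **`SwCv K` from its sockets.** -/
theorem swCv_of {K : Cls.{u}} (hTT : SwTT K) (hN1 : SwMixNatOne K) (hN2 : SwMixNat K) (hS1 : SwMixSymOne K)
    (hS2 : SwMixSym K) (hPair : TTPair K) (hU : NatUn K) (hFr : FreeFour K) : SwCv K := by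
  intro G _ _ S S' hH₀ P P' hp k m hk hm ⟨M⟩ hf
  have hG := hH₀.ctx
  have hc := hG.char2
  obtain ⟨t, t'⟩ := hH₀.typed' hp
  obtain ⟨ε, hL⟩ := SwCv.exists_lb hc S hp.star (by omega) (by omega) M
  have hF := SymWrD.fOne_all hc hp.star hL (by omega) hm
  have hzz : Nat.card (zc (S' : Subgroup G)) = Nat.card (zc (S : Subgroup G)) := by
    refine Half.card_zc_of_card_eq S S'.isPGroup' ?_
    rw [S.card_eq_multiplicity, S'.card_eq_multiplicity]
  rcases t'.cases with ⟨k', hk', F', _, _, _, ⟨N₀⟩⟩ | ⟨k', m', hk', hm', ⟨M'⟩⟩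
  · -- natural partner
    obtain ⟨N, -, i, a, b, i', tn⟩ := SwCv.exists_tn hc hp t.noOver t'.noOver hL hF N₀ (by omega)
    have hD : cv (S : Subgroup G) P ≠ ⊥ ∧ cv (S' : Subgroup G) P' ≠ ⊥ := by
      by_cases h0 : cv (S : Subgroup G) P = ⊥
      · exfalso
        have h1 := zc_le_two hc hp.star hL (by omega) hm h0
        have h2 : cv (S' : Subgroup G) P' ≠ ⊥ := fun h => hf ⟨h0, h⟩
        have h3 := NV.four_le_zc N i' h2
        omega
      · refine ⟨h0, fun h1 => ?_⟩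
        have h2 := four_le_zc hL (by omega) h0
        rw [h1] at N₀
        have h3 := Cv.card_zc_le N₀ ⟨0, by omega⟩
        rw [tn.cardF] at h3
        omega
    obtain ⟨hD, hD'⟩ := hD
    by_cases hnf : NoFree (S : Subgroup G)
    swap
    · exact hFr G S hH₀ (four_le_zc hL (by omega) hD) hnf
    have hH : HypN K S := { hH₀ with nf := hnf }
    have hH' := hH.conj S'
    by_cases hu : UnM N i'
    · exact hU G S' hH' P' F' k' N₀ N hk' tn.cardF hD' i' hu
    by_cases hpu : Pure (zl (S : Subgroup G) P) (du ε i a b)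
    · exact hTT G S hH P k m M ε hL hk hm hp.star hF hD (fr_of_pure hc hp.star hL (by omega) hm hF tn.ne hpu)
    rcases Nat.lt_or_ge k' 2 with h2 | h2
    · obtain rfl : k' = 1 := by omega
      exact hN1 G S S' hH P P' k m M ε hL hk hm hF hD hD' F' N i a b i' tn hpu hu
    · exact hN2 G S S' hH P P' k m M ε hL hk hm hF hD hD' F' k' N h2 (fun l => Cv.SymD.hC_two N tn.cardF l) i a b i' tn
        hpu hu
  · -- partner of type `S_{2^m'+1}`
    obtain ⟨ε', hL'⟩ := SwCv.exists_lb hc S' hp.star' (by omega) (by omega) M'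
    have hF' := SymWrD.fOne_all hc hp.star' hL' (by omega) hm'
    obtain ⟨i, a, b, i', a', b', tt⟩ := SwCv.exists_tt' hc hp t.noOver t'.noOver hL hL' hF hF'
    have hD : cv (S : Subgroup G) P ≠ ⊥ ∧ cv (S' : Subgroup G) P' ≠ ⊥ := by
      by_cases h0 : cv (S : Subgroup G) P = ⊥
      · exfalso
        have h1 := zc_le_two hc hp.star hL (by omega) hm h0
        have h2 : cv (S' : Subgroup G) P' ≠ ⊥ := fun h => hf ⟨h0, h⟩
        have h3 := four_le_zc hL' (by omega) h2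
        omega
      · refine ⟨h0, fun h1 => ?_⟩
        have h2 := four_le_zc hL (by omega) h0
        have h3 := zc_le_two hc hp.star' hL' (by omega) hm' h1
        omega
    obtain ⟨hD, hD'⟩ := hD
    by_cases hnf : NoFree (S : Subgroup G)
    swap
    · exact hFr G S hH₀ (four_le_zc hL (by omega) hD) hnf
    have hH : HypN K S := { hH₀ with nf := hnf }
    have hH' := hH.conj S'
    by_cases hpu : Pure (zl (S : Subgroup G) P) (du ε i a b)
    · exact hTT G S hH P k m M ε hL hk hm hp.star hF hD (fr_of_pure hc hp.star hL (by omega) hm hF tt.ne hpu)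
    by_cases hpu' : Pure (zl (S' : Subgroup G) P') (du ε i a b)
    · rw [tt.eq] at hpu'
      rcases Nat.lt_or_ge k' 2 with h2 | h2
      · obtain rfl : k' = 1 := by omega
        obtain ⟨g, hg⟩ := mutual_of_pure hc hp.star' hL' (by omega) hm' hF' tt.ne' hpu'
        exact hPair G hH'.ctx hH'.cls S' hH'.full hH'.allIn hH'.typed P' P' g hg (fun hf' => hD' hf'.1) m' m' hm' hm'
          ⟨M'⟩ ⟨M'⟩
      · exact hTT G S' hH' P' k' m' M' ε' hL' h2 hm' hp.star' hF' hD'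
          (fr_of_pure hc hp.star' hL' (by omega) hm' hF' tt.ne' hpu')
    rcases Nat.lt_or_ge k' 2 with h2 | h2
    · obtain rfl : k' = 1 := by omega
      exact hS1 G S S' hH P P' k m m' M M' ε ε' hL hL' hk hm hm' hF hF' hD hD' i a b i' a' b' tt hpu hpu'
    · exact hS2 G S S' hH P P' k m k' m' M M' ε ε' hL hL' hk hm h2 hm' hF hF' hD hD' i a b i' a' b' tt hpu hpu'

end Cfsg.Agent.Omega.IId.SwCvC

end

section


/-!
# II.d, `SwCv K`: the mixed sockets from ONE statement `SwMixW` (helper48's MIX-W) (helper79)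

`SwMixW K` : `P` over `S` with `k ≥ 2` factors `S_{2^m+1}`, `D ≠ 1`, F1, `n = {a,b}` a duad, `W₀ ≤ S` a four-group with
`n ∈ W₀ ≤ O₂(C_G(n))`, `[O₂(C_G(n)), W₀] ≤ ⟨n⟩`, `N_G(W₀)` transitive on `W₀#`, an element of `W₀` acts on `V_P` as `(a b)`,
`W₀` and `V_P` commute with all their conjugates under `C_G(n)`.

* natural partner (any `k'`): `W₀ = fac N i'` : `mixNatOne_of`, `mixNat_of`;
* partner of type `S_{2^m'+1}` (any `k'`): `W₀ = {1, n, a'0, b'0}` : `mixSymOne_of`, `mixSym_of`.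
-/

set_option autoImplicit false
set_option linter.unusedSectionVars false

namespace Cfsg.Agent.Omega.IId.SwCvC

open Subgroup Pointwise Cfsg
open Cfsg.Agent.ZN.ChoiceBase hiding mem_zc
open Cfsg.Agent.ZN (o2 zc zl)
open Cfsg.Agent.Omega.MinPar Cfsg.Agent.Omega.Frame Cfsg.Agent.Omega.FFThm Cfsg.Agent.Omega.FrameMulti
open Cfsg.Agent.Omega.FrameFF (cv Free)
open Cfsg.Agent.Omega.HOne.Main (vx)
open Cfsg.Agent.Omega.IId.SwCv (Lb du FOne TT TN)
open Cfsg.Agent.Omega.IId.SwCv.Lb (SwA)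
open Cfsg.Agent.Omega.IId.Cv (HypN UnM)
open Cfsg.Agent.Omega.HT.LineOf (Ln dd ln)
open scoped commutatorElement

universe u

/-- **MIX-W** (helper48): the mixed case, any partner. -/
def SwMixW (K : Cls.{u}) : Prop :=
  ∀ (G : Type u) [Group G] [Finite G] (S : Sylow 2 G), HypN K S → ∀ (P : Subgroup G) (k m : ℕ)
    (M : SymK (S : Subgroup G) P (zl (S : Subgroup G) P) (cv (S : Subgroup G) P) k m)
    (ε : Fin k → (Fin (2 ^ m + 1) → ZMod 2) → G), Lb M ε → 2 ≤ k → 2 ≤ m → IsParS (S : Subgroup G) P →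
      FOne M ε → cv (S : Subgroup G) P ≠ ⊥ →
      ∀ (i : Fin k) (a b : Fin (2 ^ m + 1)), a ≠ b → ∀ W₀ : Subgroup G, Nat.card W₀ = 4 → W₀ ≤ (S : Subgroup G) →
        du ε i a b ∈ W₀ → W₀ ≤ o2 (centralizer ({du ε i a b} : Set G)) →
        (∀ x ∈ o2 (centralizer ({du ε i a b} : Set G)), ∀ w ∈ W₀, ⁅x, w⁆ = 1 ∨ ⁅x, w⁆ = du ε i a b) →
        (∀ u ∈ W₀, ∀ v ∈ W₀, u ≠ 1 → v ≠ 1 → ∃ g ∈ normalizer (W₀ : Set G), g * u * g⁻¹ = v) →
        (∃ w ∈ W₀, SwA M w i a b) →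
        (∀ g ∈ centralizer ({du ε i a b} : Set G), ∀ u ∈ W₀, ∀ v ∈ W₀, u * (g * v * g⁻¹) = g * v * g⁻¹ * u) →
        ¬ Pure (zl (S : Subgroup G) P) (du ε i a b) → IsKnownSimple' G

/-! ### Natural partners -/

section nat

variable {K : Cls.{u}} {G : Type u} [Group G] [Finite G] {S S' : Sylow 2 G} {P P' : Subgroup G} {k m : ℕ}
  {M : SymK (S : Subgroup G) P (zl (S : Subgroup G) P) (cv (S : Subgroup G) P) k m}
  {ε : Fin k → (Fin (2 ^ m + 1) → ZMod 2) → G} {F' : Type} [Field F'] [Finite F'] [CharP F' 2] {V' D' : Subgroup G}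
  {k' : ℕ} {N : NatD F' S' P' V' D' k'} {i : Fin k} {a b : Fin (2 ^ m + 1)} {i' : Fin k'}

theorem nat_known (hW : SwMixW K) (hH : HypN K S) (hL : Lb M ε) (hk : 2 ≤ k) (hm : 2 ≤ m) (hF : FOne M ε)
    (hD : cv (S : Subgroup G) P ≠ ⊥) (hC : ∀ l, NV.QL N l ≤ (S' : Subgroup G)) (t : TN S S' P P' M ε N i a b i')
    (hp : ¬ Pure (zl (S : Subgroup G) P) (du ε i a b)) (hu : ¬ UnM N i') : IsKnownSimple' G := by
  have hN := t.normalizer_line hL
  have hQ : NV.QL N i' = o2 (centralizer ({du ε i a b} : Set G)) := by rw [NV.QL, hN]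
  have hfV : NV.fac N.toNatV i' ≤ zl (S' : Subgroup G) P' := (NV.fac_le _ _).trans N.V_le
  have hline := t.mem_line
  refine hW G S hH P k m M ε hL hk hm t.pair.star hF hD i a b t.ne (NV.fac N.toNatV i') ?_ (hfV.trans t.pair.le)
    (NV.line_le _ _ ((hline _).2 (Or.inr rfl))) ?_ ?_ ?_ ?_ ?_ hp
  · rw [NV.card_fac, t.cardF]; norm_num
  · rw [← hQ]
    exact NV.fac_le_QL_self N hC i'
  · intro x hx w hw
    rw [← hQ] at hx
    have h1 := NV.comm_QL N hC hx (hfV hw)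
    exact (hline _).1 h1
  · intro u hu v hv hu1 hv1
    obtain ⟨g, hg, e⟩ := NV.exists_grp N.toNatV hu hv hu1 hv1
    exact ⟨g, NV.grp_normalizes N.toNatV {i'} {i'} hg, e⟩
  · obtain ⟨w, hw, he⟩ := NV.exists_fac N.toNatV i' ![0, 1]
    exact ⟨w, hw, t.sw w hw (by rw [he]; exact one_ne_zero)⟩
  · intro g hg u hu' v hv
    by_contra hne
    rw [← hN] at hg
    exact hu ⟨g, hg, u, hu', v, hv, hne⟩

end nat

theorem mixNatOne_of {K : Cls.{u}} (hW : SwMixW K) : SwMixNatOne K := by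
  intro G _ _ S S' hH P P' k m M ε hL hk hm hF hD _ F' _ _ _ N i a b i' t hp hu
  exact nat_known hW hH hL hk hm hF hD (fun l => NV.hC_one N l) t hp hu

theorem mixNat_of {K : Cls.{u}} (hW : SwMixW K) : SwMixNat K := by
  intro G _ _ S S' hH P P' k m M ε hL hk hm hF hD _ F' _ _ _ k' N _ hC i a b i' t hp hu
  exact nat_known hW hH hL hk hm hF hD hC t hp hu

/-! ### Partners of type `S_{2^m'+1}` -/

section gen

variable {G : Type u} [Group G] {a b : G}

theorem card_ln (h : Ln a b) : Nat.card (ln h) = 4 := by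
  have h1 : (ln h : Set G) = {1, a, b, a * b} := by
    ext x
    constructor
    · rintro (rfl | ⟨i, rfl⟩)
      · simp
      · fin_cases i <;> simp [dd]
    · rintro (rfl | rfl | rfl | rfl)
      · exact one_mem _
      · exact h.dd_mem 0
      · exact h.dd_mem 1
      · exact h.dd_mem 2
  have h2 : Nat.card (ln h) = (ln h : Set G).ncard := Nat.card_coe_set_eq _
  rw [h2, h1]
  rw [Set.ncard_insert_of_notMem, Set.ncard_insert_of_notMem, Set.ncard_pair h.b_ab]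
  · rintro (e | e)
    · exact h.ne e
    · exact h.a_ab e
  · rintro (e | e | e)
    · exact h.a1 e.symm
    · exact h.b1 e.symm
    · exact h.ab1 e.symm

theorem mem_ln_iff (h : Ln a b) {x : G} : x ∈ ln h ↔ x = 1 ∨ x = a ∨ x = b ∨ x = a * b := by
  constructor
  · rintro (rfl | ⟨i, rfl⟩)
    · simp
    · fin_cases i <;> simp [dd]
  · rintro (rfl | rfl | rfl | rfl)
    · exact one_mem _
    · exact h.dd_mem 0
    · exact h.dd_mem 1
    · exact h.dd_mem 2

end gen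

section sym

variable {K : Cls.{u}} {G : Type u} [Group G] [Finite G] {S S' : Sylow 2 G} {P P' : Subgroup G} {k m k' m' : ℕ}
  {M : SymK (S : Subgroup G) P (zl (S : Subgroup G) P) (cv (S : Subgroup G) P) k m}
  {M' : SymK (S' : Subgroup G) P' (zl (S' : Subgroup G) P') (cv (S' : Subgroup G) P') k' m'}
  {ε : Fin k → (Fin (2 ^ m + 1) → ZMod 2) → G} {ε' : Fin k' → (Fin (2 ^ m' + 1) → ZMod 2) → G}
  {i : Fin k} {a b : Fin (2 ^ m + 1)} {i' : Fin k'} {a' b' : Fin (2 ^ m' + 1)}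

/-- `{a,c}`, `{b,c}` as two distinct involutions -/
theorem ln_du (hL : Lb M ε) {a b c : Fin (2 ^ m + 1)} (hab : a ≠ b) (hac : a ≠ c) (hbc : b ≠ c) :
    Ln (du ε i a c) (du ε i b c) where
  aa := hL.du_mul_self i a c
  bb := hL.du_mul_self i b c
  comm := hL.comm _ (hL.du_mem i a c) _ (hL.du_mem i b c)
  a1 := hL.du_ne_one hac
  b1 := hL.du_ne_one hbc
  ne := fun e => by
    have h1 := hL.du_mul i a b c
    rw [e, hL.du_mul_self] at h1
    exact hL.du_ne_one hab h1.symm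

/-- the permutations of `{a, b, c}` -/
theorem nor_ln (hL : Lb M ε) {a b c : Fin (2 ^ m + 1)} (hab : a ≠ b) (hac : a ≠ c) (hbc : b ≠ c)
    {τ : Equiv.Perm (Fin (2 ^ m + 1))} (hτ : ∀ x, x = a ∨ x = b ∨ x = c → τ x = a ∨ τ x = b ∨ τ x = c) :
    ∃ g ∈ normalizer (ln (ln_du (i := i) hL hab hac hbc) : Set G), ∀ x y,
      g * du ε i x y * g⁻¹ = du ε i (τ x) (τ y) := by
  classical
  obtain ⟨g, hg, hact, -⟩ := M.lift (Function.update 1 i τ)
  have key : ∀ x y, g * du ε i x y * g⁻¹ = du ε i (τ x) (τ y) := by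
    intro x y
    have h1 := hL.conj_du hg hact i x y
    rw [Function.update_self] at h1
    exact h1
  refine ⟨g, ?_, key⟩
  have hmem : ∀ x y, (x = a ∨ x = b ∨ x = c) → (y = a ∨ y = b ∨ y = c) →
      du ε i x y ∈ ln (ln_du (i := i) hL hab hac hbc) := by
    have e1 := hL.du_mul i a b c
    have hself : ∀ x, du ε i x x = 1 := fun x => by
      have h2 := hL.du_mul i x x c
      rw [hL.du_mul_self] at h2
      exact h2.symm
    rintro x y (rfl | rfl | rfl) (rfl | rfl | rfl) <;> rw [mem_ln_iff]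
    · left; exact hself _
    · right; right; right; exact e1.symm
    · right; left; rfl
    · right; right; right; rw [Lb.du_comm]; exact e1.symm
    · left; exact hself _
    · right; right; left; rfl
    · right; left; exact Lb.du_comm _ _ _
    · right; right; left; exact Lb.du_comm _ _ _
    · left; exact hself _
  refine Cfsg.Agent.Omega.BTwo.mem_normalizer_of_conj fun x hx => ?_
  rcases (mem_ln_iff _).1 hx with rfl | rfl | rfl | rfl
  · rw [mul_one, mul_inv_cancel]; exact one_mem _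
  · rw [key]
    exact hmem _ _ (hτ _ (Or.inl rfl)) (hτ _ (Or.inr (Or.inr rfl)))
  · rw [key]
    exact hmem _ _ (hτ _ (Or.inr (Or.inl rfl))) (hτ _ (Or.inr (Or.inr rfl)))
  · rw [hL.du_mul, key]
    exact hmem _ _ (hτ _ (Or.inl rfl)) (hτ _ (Or.inr (Or.inl rfl)))

theorem sym_known (hW : SwMixW K) (hH : HypN K S) (hL : Lb M ε) (hL' : Lb M' ε') (hk : 2 ≤ k) (hm : 2 ≤ m)
    (hF : FOne M ε) (hF' : FOne M' ε') (hD : cv (S : Subgroup G) P ≠ ⊥)
    (t : TT S S' P P' M M' ε ε' i a b i' a' b') (hp : ¬ Pure (zl (S : Subgroup G) P) (du ε i a b))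
    (hp' : ¬ Pure (zl (S' : Subgroup G) P') (du ε i a b)) : IsKnownSimple' G := by
  classical
  have hVS' : zl (S : Subgroup G) P ≤ (S' : Subgroup G) := t.pair.le'
  obtain ⟨v₀, hv₀, hs⟩ := t.sw'
  -- `0` is none of `a'`, `b'`
  have h0 : Equiv.swap a' b' 0 = 0 := by
    have h1 := M'.fix0 v₀ (hVS' hv₀) _ _ hs i'
    rwa [Function.update_self] at h1
  have ha0 : a' ≠ 0 := by
    intro e
    rw [e, Equiv.swap_apply_left] at h0
    exact t.ne' (e.trans h0.symm)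
  have hb0 : b' ≠ 0 := by
    intro e
    rw [e, Equiv.swap_apply_right] at h0
    exact t.ne' (h0.trans e.symm)
  have hln := ln_du (i := i') hL' t.ne' ha0 hb0
  have hWV : ln hln ≤ zl (S' : Subgroup G) P' := by
    intro x hx
    rcases (mem_ln_iff _).1 hx with rfl | rfl | rfl | rfl
    · exact one_mem _
    · exact hL'.du_mem _ _ _
    · exact hL'.du_mem _ _ _
    · exact mul_mem (hL'.du_mem _ _ _) (hL'.du_mem _ _ _)
  have hn : du ε i a b ∈ ln hln := by
    rw [t.eq, mem_ln_iff]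
    right; right; right
    exact (hL'.du_mul i' a' b' 0).symm
  refine hW G S hH P k m M ε hL hk hm t.pair.star hF hD i a b t.ne (ln hln) (card_ln _) (hWV.trans t.pair.le) hn
    ?_ ?_ ?_ ?_ ?_ hp
  · rw [t.eq]
    exact hWV.trans (hF'.le i' a' b' t.ne')
  · rw [t.eq]
    intro x hx w hw
    exact hF'.comm i' a' b' t.ne' x hx w (hWV hw)
  · -- transitivity
    have hm1 : ∀ {x y z : Fin (2 ^ m' + 1)}, (x = a' ∨ x = b' ∨ x = 0) → (y = a' ∨ y = b' ∨ y = 0) →
        (z = a' ∨ z = b' ∨ z = 0) → Equiv.swap x y z = a' ∨ Equiv.swap x y z = b' ∨ Equiv.swap x y z = 0 := by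
      intro x y z hx hy hz
      rcases eq_or_ne z x with e | e
      · rw [e, Equiv.swap_apply_left]; exact hy
      rcases eq_or_ne z y with e' | e'
      · rw [e', Equiv.swap_apply_right]; exact hx
      · rw [Equiv.swap_apply_of_ne_of_ne e e']; exact hz
    obtain ⟨g₁, hg₁, e₁⟩ := nor_ln (i := i') hL' t.ne' ha0 hb0 (τ := Equiv.swap a' b') fun x hx =>
      hm1 (Or.inl rfl) (Or.inr (Or.inl rfl)) hx
    obtain ⟨g₂, hg₂, e₂⟩ := nor_ln (i := i') hL' t.ne' ha0 hb0 (τ := Equiv.swap 0 b') fun x hx =>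
      hm1 (Or.inr (Or.inr rfl)) (Or.inr (Or.inl rfl)) hx
    obtain ⟨g₃, hg₃, e₃⟩ := nor_ln (i := i') hL' t.ne' ha0 hb0 (τ := Equiv.swap 0 a') fun x hx =>
      hm1 (Or.inr (Or.inr rfl)) (Or.inl rfl) hx
    -- the three points: `A = {a',0}`, `B = {b',0}`, `C = {a',b'}`
    have eab : g₁ * du ε' i' a' 0 * g₁⁻¹ = du ε' i' b' 0 := by
      rw [e₁, Equiv.swap_apply_left, h0]
    have eac : g₂ * du ε' i' a' 0 * g₂⁻¹ = du ε' i' a' b' := by
      rw [e₂, Equiv.swap_apply_left, Equiv.swap_apply_of_ne_of_ne ha0 t.ne']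
    have ebc : g₃ * du ε' i' b' 0 * g₃⁻¹ = du ε' i' a' b' := by
      rw [e₃, Equiv.swap_apply_left, Equiv.swap_apply_of_ne_of_ne hb0 t.ne'.symm, Lb.du_comm]
    have hback : ∀ {g u v : G}, g ∈ normalizer (ln hln : Set G) → g * u * g⁻¹ = v →
        ∃ g ∈ normalizer (ln hln : Set G), g * v * g⁻¹ = u := by
      intro g u v hg e
      exact ⟨g⁻¹, inv_mem hg, by rw [← e]; group⟩
    have hone : ∀ u : G, ∃ g ∈ normalizer (ln hln : Set G), g * u * g⁻¹ = u := fun u => ⟨1, one_mem _, by group⟩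
    have hC := hL'.du_mul i' a' b' 0
    intro u hu v hv hu1 hv1
    rcases (mem_ln_iff _).1 hu with rfl | rfl | rfl | rfl
    · exact absurd rfl hu1
    · rcases (mem_ln_iff _).1 hv with rfl | rfl | rfl | rfl
      · exact absurd rfl hv1
      · exact hone _
      · exact ⟨g₁, hg₁, eab⟩
      · exact ⟨g₂, hg₂, eac.trans hC.symm⟩
    · rcases (mem_ln_iff _).1 hv with rfl | rfl | rfl | rfl
      · exact absurd rfl hv1
      · exact hback hg₁ eab
      · exact hone _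
      · exact ⟨g₃, hg₃, ebc.trans hC.symm⟩
    · rcases (mem_ln_iff _).1 hv with rfl | rfl | rfl | rfl
      · exact absurd rfl hv1
      · exact hback hg₂ (eac.trans hC.symm)
      · exact hback hg₃ (ebc.trans hC.symm)
      · exact hone _
  · refine ⟨du ε' i' a' 0, (mem_ln_iff _).2 (Or.inr (Or.inl rfl)), ?_⟩
    refine (t.act _ (hL'.du_mem _ _ _)).resolve_left fun hcon => ?_
    -- `v₀` moves `{a', 0}`
    have h1 := hL'.conj_du (hL'.TH (hVS' hv₀)) hs i' a' 0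
    rw [Function.update_self, Equiv.swap_apply_left, h0] at h1
    have h2 : v₀ * du ε' i' a' 0 * v₀⁻¹ = du ε' i' a' 0 := by
      rw [← hcon v₀ hv₀]; group
    exact hln.ne (h2.symm.trans h1)
  · intro g hg u hu v hv
    by_contra hne
    exact hp' ⟨g, hg, u, hWV hu, v, hWV hv, hne⟩

end sym

theorem mixSymOne_of {K : Cls.{u}} (hW : SwMixW K) : SwMixSymOne K := by
  intro G _ _ S S' hH P P' k m m' M M' ε ε' hL hL' hk hm _ hF hF' hD _ i a b i' a' b' t hp hp'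
  exact sym_known hW hH hL hL' hk hm hF hF' hD t hp hp'

theorem mixSym_of {K : Cls.{u}} (hW : SwMixW K) : SwMixSym K := by
  intro G _ _ S S' hH P P' k m k' m' M M' ε ε' hL hL' hk hm _ _ hF hF' hD _ i a b i' a' b' t hp hp'
  exact sym_known hW hH hL hL' hk hm hF hF' hD t hp hp'

/-- **`SwCv K` from T-T and MIX-W.** -/
theorem swCv_of' {K : Cls.{u}} (hTT : SwTT K) (hW : SwMixW K) (hPair : Cv.TTPair K) (hU : NatUn K)
    (hFr : FreeFour K) : SwCv K :=
  swCv_of hTT (mixNatOne_of hW) (mixNat_of hW) (mixSymOne_of hW) (mixSym_of hW) hPair hU hFr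

end Cfsg.Agent.Omega.IId.SwCvC

end

end

-- merged: Cfsg.Agent.Mrg.Omega.IId.SwCv.NatM.Blk
section

/-!
# `u` commutes with the stabiliser of the block `i` (helper48 #20133 (7), first half)

`n = {a, b}`, `u` is centralised by `C_H(n)` and by elements inducing `(a o)` and `(b o)` : then by every element of
`H` fixing the block `i`.
-/

set_option autoImplicit false
set_option linter.unusedSectionVars false

namespace Cfsg.Agent.Omega.IId.SwCv.NatM

open Subgroup Cfsg Cfsg.Agent.Omega.FFThm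
open Lb (SwA)

universe u

theorem ai {α : Type*} (σ : Equiv.Perm α) (x : α) : σ (σ⁻¹ x) = x := σ.apply_symm_apply x

theorem ia {α : Type*} (σ : Equiv.Perm α) (x : α) : σ⁻¹ (σ x) = x := σ.symm_apply_apply x

variable {G : Type u} [Group G] {T H V D : Subgroup G} {k m : ℕ} {M : SymK T H V D k m}
  {ε : Fin k → (Fin (2 ^ m + 1) → ZMod 2) → G} (h : Lb M ε)
include h

/-- products -/
theorem acts_mul {x y : G} (hy : y ∈ H) {σ σ' : Equiv.Perm (Fin k)}
    {τ τ' : Fin k → Equiv.Perm (Fin (2 ^ m + 1))} (hx' : ActsSym M.e V x σ τ) (hy' : ActsSym M.e V y σ' τ') :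
    ActsSym M.e V (x * y) (σ * σ') (fun j => τ (σ' j) * τ' j) := by
  intro v hv j z
  have h1 := hx' _ (h.conj_mem hy hv) (σ' j) (τ' j z)
  have h2 := hy' v hv j z
  have e : x * y * v * (x * y)⁻¹ = x * (y * v * y⁻¹) * x⁻¹ := by group
  rw [e]
  change M.e (x * (y * v * y⁻¹) * x⁻¹) (σ (σ' j)) (τ (σ' j) (τ' j z)) = _
  rw [h1, h2]

/-- inverses -/
theorem acts_inv {x : G} (hx : x ∈ H) {σ : Equiv.Perm (Fin k)}
    {τ : Fin k → Equiv.Perm (Fin (2 ^ m + 1))} (hx' : ActsSym M.e V x σ τ) :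
    ActsSym M.e V x⁻¹ σ⁻¹ (fun j => (τ (σ⁻¹ j))⁻¹) := by
  intro v hv j z
  have h1 := hx' _ (h.conj_mem (inv_mem hx) hv) (σ⁻¹ j) ((τ (σ⁻¹ j))⁻¹ z)
  have e : x * (x⁻¹ * v * x⁻¹⁻¹) * x⁻¹ = v := by group
  rw [e, ai, ai] at h1
  exact h1.symm

/-- conjugates of transpositions -/
theorem SwA_conj {g w : G} (hg : g ∈ H) (hwH : w ∈ H) {σ : Equiv.Perm (Fin k)}
    {τ : Fin k → Equiv.Perm (Fin (2 ^ m + 1))}
    (ha : ActsSym M.e V g σ τ) {i : Fin k} {a b : Fin (2 ^ m + 1)} (hw : SwA M w i a b) :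
    SwA M (g * w * g⁻¹) (σ i) (τ i a) (τ i b) := by
  have h1 := acts_mul h (inv_mem hg) (acts_mul h hwH ha hw) (acts_inv h hg ha)
  have e1 : σ * 1 * σ⁻¹ = 1 := by rw [mul_one, mul_inv_cancel]
  rw [e1] at h1
  have e2 : (fun j => τ ((1 : Equiv.Perm (Fin k)) (σ⁻¹ j)) *
      Function.update (1 : Fin k → Equiv.Perm (Fin (2 ^ m + 1))) i (Equiv.swap a b) (σ⁻¹ j) * (τ (σ⁻¹ j))⁻¹) =
      Function.update (1 : Fin k → Equiv.Perm (Fin (2 ^ m + 1))) (σ i) (Equiv.swap (τ i a) (τ i b)) := by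
    funext j
    change τ (σ⁻¹ j) * _ * _ = _
    by_cases hj : j = σ i
    · subst hj
      rw [ia, Function.update_self, Function.update_self,
        Equiv.swap_apply_apply]
    · have hj' : σ⁻¹ j ≠ i := fun h0 => hj (by rw [← h0, ai])
      rw [Function.update_of_ne hj', Function.update_of_ne hj, Pi.one_apply, Pi.one_apply, mul_one,
        mul_inv_cancel]
  change ActsSym M.e V (g * w * g⁻¹) 1 _
  rw [← e2]
  exact h1

omit h in
/-- an element inducing a given transposition -/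
theorem exists_sw (M : SymK T H V D k m) (i : Fin k) (c d : Fin (2 ^ m + 1)) : ∃ y ∈ H, SwA M y i c d := by
  obtain ⟨y, hy, hy', -⟩ := M.lift (Function.update 1 i (Equiv.swap c d))
  exact ⟨y, hy, hy'⟩

/-- the image of a duad under a transposition -/
theorem sw_du {y : G} (hy : y ∈ H) {i : Fin k} {c d : Fin (2 ^ m + 1)} (hs : SwA M y i c d)
    (x z : Fin (2 ^ m + 1)) :
    y * du ε i x z * y⁻¹ = du ε i (Equiv.swap c d x) (Equiv.swap c d z) := by
  have h1 := h.conj_du hy hs i x z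
  rw [Function.update_self] at h1
  exact h1

/-- a duad determines its block and its points -/
theorem du_inj {j i : Fin k} {x y c d : Fin (2 ^ m + 1)} (hxy : x ≠ y) (hcd : c ≠ d)
    (he : du ε j x y = du ε i c d) : j = i ∧ ((x = c ∧ y = d) ∨ (x = d ∧ y = c)) := by
  have h1 := h.e_du j x y
  rw [he, h.e_du] at h1
  have hji : j = i := by
    by_contra hne
    have h2 := congrFun (congrFun h1 i) c
    rw [Pi.single_eq_same, Pi.single_eq_of_ne (Ne.symm hne), Pi.add_apply, Pi.single_eq_same,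
      Pi.single_eq_of_ne hcd, add_zero] at h2
    exact one_ne_zero h2
  subst hji
  refine ⟨rfl, ?_⟩
  have h2 : ∀ z, (Pi.single c 1 + Pi.single d 1 : Fin (2 ^ m + 1) → ZMod 2) z =
      (Pi.single x 1 + Pi.single y 1 : Fin (2 ^ m + 1) → ZMod 2) z := by
    intro z
    have h3 := congrFun (congrFun h1 j) z
    rwa [Pi.single_eq_same, Pi.single_eq_same] at h3
  have key : ∀ p q r s : Fin (2 ^ m + 1), p ≠ q → (∀ z, (Pi.single p 1 + Pi.single q 1 : Fin (2 ^ m + 1) → ZMod 2) z =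
      (Pi.single r 1 + Pi.single s 1 : Fin (2 ^ m + 1) → ZMod 2) z) → p = r ∨ p = s := by
    intro p q r s hpq hh
    by_contra hcon
    push Not at hcon
    have h4 := hh p
    rw [Pi.add_apply, Pi.add_apply, Pi.single_eq_same, Pi.single_eq_of_ne hpq, Pi.single_eq_of_ne hcon.1,
      Pi.single_eq_of_ne hcon.2, add_zero, add_zero] at h4
    exact one_ne_zero h4
  have hx := key x y c d hxy fun z => (h2 z).symm
  have hy := key y x c d (Ne.symm hxy) fun z => by rw [h2 z, add_comm]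
  rcases hx with hx | hx <;> rcases hy with hy | hy
  · exact absurd (hx.trans hy.symm) hxy
  · exact Or.inl ⟨hx, hy⟩
  · exact Or.inr ⟨hx, hy⟩
  · exact absurd (hx.trans hy.symm) hxy

/-- an element of `A_{cd}` inducing the transposition `(c d)` -/
theorem exists_conj_sw {g w u : G} (hg : g ∈ H) (hw : w ∈ H) {i : Fin k} {a b c d : Fin (2 ^ m + 1)} (hab : a ≠ b)
    (hcd : c ≠ d) (hgn : g * du ε i a b * g⁻¹ = du ε i c d) (hs : SwA M w i a b)
    (hu : g * w * g⁻¹ * u = u * (g * w * g⁻¹)) : ∃ x ∈ H, x * u = u * x ∧ SwA M x i c d := by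
  obtain ⟨σ, τ, ha⟩ := M.perm g hg
  have h1 := h.conj_du hg ha i a b
  rw [hgn] at h1
  obtain ⟨h2, h3⟩ := du_inj h (fun h0 => hab ((τ i).injective h0)) hcd h1.symm
  refine ⟨g * w * g⁻¹, mul_mem (mul_mem hg hw) (inv_mem hg), hu, ?_⟩
  have h4 := SwA_conj h hg hw ha hs
  rw [h2] at h4
  rcases h3 with ⟨h5, h6⟩ | ⟨h5, h6⟩
  · rw [h5, h6] at h4; exact h4
  · rw [h5, h6] at h4
    rw [SwA, Equiv.swap_comm]
    exact h4

/-- **`u` is centralised by the stabiliser of the block `i`.** -/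
theorem comm_block {i : Fin k} {a b o : Fin (2 ^ m + 1)} (hab : a ≠ b) (hoa : o ≠ a) (hob : o ≠ b) {u : G}
    (hn : ∀ g ∈ H, g * du ε i a b = du ε i a b * g → g * u = u * g)
    (hao : ∃ x ∈ H, x * u = u * x ∧ SwA M x i a o) (hbo : ∃ x ∈ H, x * u = u * x ∧ SwA M x i b o)
    {g : G} (hg : g ∈ H) {σ : Equiv.Perm (Fin k)} {τ : Fin k → Equiv.Perm (Fin (2 ^ m + 1))}
    (ha : ActsSym M.e V g σ τ) (hσ : σ i = i) : g * u = u * g := by
  set n := du ε i a b with hnd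
  -- `Q p` : `p` is conjugate to `n` under an element of `H` centralising `u`
  have comp : ∀ p : G, ∀ y ∈ H, y * u = u * y →
      (∃ x ∈ H, x * u = u * x ∧ x * (y * p * y⁻¹) * x⁻¹ = n) → ∃ x ∈ H, x * u = u * x ∧ x * p * x⁻¹ = n := by
    rintro p y hy hyu ⟨x, hx, hxu, e⟩
    refine ⟨x * y, mul_mem hx hy, ?_, by rw [← e]; group⟩
    rw [mul_assoc, hyu, ← mul_assoc, hxu, mul_assoc]
  -- transpositions off `{a, b}` centralise `u`
  have hsw : ∀ c d : Fin (2 ^ m + 1), c ≠ a → c ≠ b → d ≠ a → d ≠ b → ∃ y ∈ H, y * u = u * y ∧ SwA M y i c d := by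
    intro c d hca hcb hda hdb
    obtain ⟨y, hy, hs⟩ := exists_sw M i c d
    refine ⟨y, hy, hn y hy ?_, hs⟩
    have h1 := sw_du h hy hs a b
    rw [Equiv.swap_apply_of_ne_of_ne (Ne.symm hca) (Ne.symm hda),
      Equiv.swap_apply_of_ne_of_ne (Ne.symm hcb) (Ne.symm hdb)] at h1
    exact mul_inv_eq_iff_eq_mul.1 h1
  have Qab : ∃ x ∈ H, x * u = u * x ∧ x * du ε i a b * x⁻¹ = n := ⟨1, one_mem _, by group, by rw [hnd]; group⟩
  have Qao : ∃ x ∈ H, x * u = u * x ∧ x * du ε i a o * x⁻¹ = n := by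
    obtain ⟨x, hx, hxu, hs⟩ := hbo
    refine ⟨x, hx, hxu, ?_⟩
    rw [sw_du h hx hs, Equiv.swap_apply_of_ne_of_ne hab (Ne.symm hoa), Equiv.swap_apply_right]
  have Qbo : ∃ x ∈ H, x * u = u * x ∧ x * du ε i b o * x⁻¹ = n := by
    obtain ⟨x, hx, hxu, hs⟩ := hao
    refine ⟨x, hx, hxu, ?_⟩
    rw [sw_du h hx hs, Equiv.swap_apply_of_ne_of_ne (Ne.symm hab) (Ne.symm hob), Equiv.swap_apply_right,
      Lb.du_comm]
  have Qad : ∀ d, d ≠ a → d ≠ b → ∃ x ∈ H, x * u = u * x ∧ x * du ε i a d * x⁻¹ = n := by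
    intro d hda hdb
    obtain ⟨y, hy, hyu, hs⟩ := hsw d o hda hdb hoa hob
    refine comp _ y hy hyu ?_
    rw [sw_du h hy hs, Equiv.swap_apply_of_ne_of_ne (Ne.symm hda) (Ne.symm hoa), Equiv.swap_apply_left]
    exact Qao
  have Qbd : ∀ d, d ≠ a → d ≠ b → ∃ x ∈ H, x * u = u * x ∧ x * du ε i b d * x⁻¹ = n := by
    intro d hda hdb
    obtain ⟨y, hy, hyu, hs⟩ := hsw d o hda hdb hoa hob
    refine comp _ y hy hyu ?_
    rw [sw_du h hy hs, Equiv.swap_apply_of_ne_of_ne (Ne.symm hdb) (Ne.symm hob), Equiv.swap_apply_left]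
    exact Qbo
  have Qod : ∀ d, d ≠ a → d ≠ b → d ≠ o → ∃ x ∈ H, x * u = u * x ∧ x * du ε i o d * x⁻¹ = n := by
    intro d hda hdb hdo
    obtain ⟨y, hy, hyu, hs⟩ := hao
    refine comp _ y hy hyu ?_
    rw [sw_du h hy hs, Equiv.swap_apply_right, Equiv.swap_apply_of_ne_of_ne hda hdo]
    exact Qad d hda hdb
  have Qcd : ∀ c d, c ≠ a → c ≠ b → d ≠ a → d ≠ b → c ≠ d →
      ∃ x ∈ H, x * u = u * x ∧ x * du ε i c d * x⁻¹ = n := by
    intro c d hca hcb hda hdb hcd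
    obtain ⟨y, hy, hyu, hs⟩ := hsw c o hca hcb hoa hob
    refine comp _ y hy hyu ?_
    rw [sw_du h hy hs, Equiv.swap_apply_left]
    by_cases hdo : d = o
    · subst hdo
      rw [Equiv.swap_apply_right]
      exact Qod c hca hcb hcd
    · rw [Equiv.swap_apply_of_ne_of_ne (Ne.symm hcd) hdo]
      exact Qod d hda hdb hdo
  have Q : ∀ c d, c ≠ d → ∃ x ∈ H, x * u = u * x ∧ x * du ε i c d * x⁻¹ = n := by
    intro c d hcd
    by_cases hca : c = a
    · subst hca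
      by_cases hdb : d = b
      · subst hdb; exact Qab
      · exact Qad d (Ne.symm hcd) hdb
    · by_cases hcb : c = b
      · subst hcb
        by_cases hda : d = a
        · subst hda
          rw [Lb.du_comm]; exact Qab
        · exact Qbd d hda (Ne.symm hcd)
      · by_cases hda : d = a
        · subst hda
          rw [Lb.du_comm]; exact Qad c hca hcb
        · by_cases hdb : d = b
          · subst hdb
            rw [Lb.du_comm]; exact Qbd c hca hcb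
          · exact Qcd c d hca hcb hda hdb hcd
  -- the element `g`
  obtain ⟨x, hx, hxu, e⟩ := Q (τ i a) (τ i b) fun h0 => hab ((τ i).injective h0)
  have h1 := h.conj_du hg ha i a b
  rw [hσ] at h1
  have h2 : x * g * n * (x * g)⁻¹ = n := by
    rw [← h1] at e
    rw [← e]
    have : x * g * n * (x * g)⁻¹ = x * (g * n * g⁻¹) * x⁻¹ := by group
    rw [e, this]
    rw [hnd, e]
  have h3 := hn _ (mul_mem hx hg) (mul_inv_eq_iff_eq_mul.1 h2)
  have h4 : x * (g * u) = x * (u * g) := by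
    calc x * (g * u) = x * g * u := by group
      _ = u * (x * g) := h3
      _ = u * x * g := by group
      _ = x * u * g := by rw [hxu]
      _ = x * (u * g) := by group
  exact mul_left_cancel h4

end Cfsg.Agent.Omega.IId.SwCv.NatM

end

-- merged: Cfsg.Agent.Mrg.Omega.IId.SwCv.NatM.MixW
section

/-!
# THEOREM MIX-W (helper48): the mixed case for a member of type `(S_{2^m+1})^k`, every partner

`M : SymK T H V D k m` with labels and F1 (`FOne`), `n = {a, b}` a duad of the summand `i`, `C = C_G(n)`, `Q = O₂(C)`.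
`V₁ ≤ Q` a four-group, `n ∈ V₁`, `N_G(V₁)` transitive on `V₁#`, some element of `V₁` acts on `V` as `(a b)`.
If some 2-group `T'` of odd index in `C` satisfies `[b₀, T'] ≤ ⟨n⟩`, `b₀ = {a, o}`, then `⟨V₁^C⟩` and `⟨V^C⟩` are not both
abelian: `mix_w`.
-/

set_option autoImplicit false
set_option linter.unusedSectionVars false

namespace Cfsg.Agent.Omega.IId.SwCv.NatM

open Subgroup Cfsg Cfsg.Agent.Omega.FFThm
open Cfsg.Agent.ZN (o2)
open Lb (SwA)
open Cfsg.Agent.Omega.IId.NV (clC le_clC clC_conj clC_le clC_comm clC_sq conj_mem_clC)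
open Cfsg.Agent.Omega.IId.One (Kk mem_Kk le_normalizer_Kk)
open Cfsg.Agent.MinSimple.VModule (o2_isPGroup o2_le le_normalizer_o2)
open scoped commutatorElement

universe u

variable {G : Type u} [Group G] [Finite G] {T H V D : Subgroup G} {k m : ℕ} {M : SymK T H V D k m}
  {ε : Fin k → (Fin (2 ^ m + 1) → ZMod 2) → G} (h : Lb M ε) (hF : FOne M ε)
include h hF

omit [Finite G] in
/-- `V ≤ K_n` -/
theorem V_le_Kk {i : Fin k} {a b : Fin (2 ^ m + 1)} (hab : a ≠ b) : V ≤ Kk (du ε i a b) := by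
  intro v hv
  refine mem_Kk.2 ⟨o2_le _ (hF.le i a b hab hv), fun x hx => ?_⟩
  have h1 := hF.comm i a b hab x hx v hv
  have h2 : v * x * v⁻¹ * x⁻¹ = ⁅x, v⁆⁻¹ := by
    rw [commutatorElement_def]; group
  rw [h2]
  apply inv_mem
  rcases h1 with h1 | h1
  · rw [h1]; exact one_mem _
  · rw [h1]; exact mem_zpowers _

/-- **THEOREM MIX-W** -/
theorem mix_w {i : Fin k} {a b o : Fin (2 ^ m + 1)} (hab : a ≠ b) (hoa : o ≠ a) (hob : o ≠ b) (hm : 2 ≤ m)
    {V₁ : Subgroup G} (hV4 : Nat.card V₁ = 4) (hVsq : ∀ v ∈ V₁, v * v = 1) (hnV : du ε i a b ∈ V₁)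
    (hVt : ∀ v ∈ V₁, v ≠ 1 → ∃ g ∈ normalizer (V₁ : Set G), g * du ε i a b * g⁻¹ = v)
    (hVQ : V₁ ≤ o2 (centralizer ({du ε i a b} : Set G))) (hmove : ∃ v ∈ V₁, v ∈ H ∧ SwA M v i a b)
    (hW₁ : ∀ g ∈ centralizer ({du ε i a b} : Set G), ∀ v ∈ V₁, ∀ w ∈ V₁, v * (g * w * g⁻¹) = g * w * g⁻¹ * v)
    (hW : ∀ g ∈ centralizer ({du ε i a b} : Set G), ∀ v ∈ V, ∀ w ∈ V, v * (g * w * g⁻¹) = g * w * g⁻¹ * v)
    {T' : Subgroup G} (hT : T' ≤ centralizer ({du ε i a b} : Set G))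
    (hodd : ¬ 2 ∣ T'.relIndex (centralizer ({du ε i a b} : Set G)))
    (hbT : ∀ t ∈ T', du ε i a o * t * (du ε i a o)⁻¹ * t⁻¹ ∈ zpowers (du ε i a b)) : False := by
  set n := du ε i a b with hn
  set C := centralizer ({n} : Set G) with hC
  have hnn : n * n = 1 := h.du_mul_self i a b
  have hn1 : n ≠ 1 := h.du_ne_one hab
  have hVle : V ≤ o2 C := hF.le i a b hab
  have hCn : ∀ g : G, g * n = n * g → g ∈ C := fun g hg => mem_centralizer_singleton_iff.2 hg
  set W₁ := clC C V₁ with hW₁def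
  set W' := clC C V with hW'def
  have hCQ : C ≤ normalizer (o2 C : Set G) := le_normalizer_o2 _
  have hW₁Q : W₁ ≤ o2 C := clC_le hCQ hVQ
  have hW'Q : W' ≤ o2 C := clC_le hCQ hVle
  have hW'K : W' ≤ Kk n := clC_le (le_normalizer_Kk n) (V_le_Kk h hF hab)
  have W₁_comm : ∀ x ∈ W₁, ∀ y ∈ W₁, x * y = y * x := clC_comm hW₁
  have W₁_sq : ∀ x ∈ W₁, x * x = 1 := clC_sq hW₁ hVsq
  have W'_comm : ∀ x ∈ W', ∀ y ∈ W', x * y = y * x := clC_comm hW
  have W'_sq : ∀ x ∈ W', x * x = 1 := clC_sq hW fun v hv => h.mul_self hv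
  have hV₁W : V₁ ≤ W₁ := le_clC
  have hVW : V ≤ W' := le_clC
  have hmemR : ∀ g, g ∈ zpowers n ↔ g = 1 ∨ g = n := fun g => MixAny.mem_zp hnn
  have comm1 : ∀ c ∈ o2 C, ∀ y ∈ W', c * y * c⁻¹ * y⁻¹ = 1 ∨ c * y * c⁻¹ * y⁻¹ = n := by
    intro c hc y hy
    rw [← hmemR]
    have h1 := (mem_Kk.1 (hW'K hy)).2 c hc
    have e : c * y * c⁻¹ * y⁻¹ = (y * c * y⁻¹ * c⁻¹)⁻¹ := by group
    rw [e]; exact inv_mem h1
  obtain ⟨v₀, hv₀, hv₀H, hvs⟩ := hmove
  -- duads `{a, c}` move `V₁`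
  have move : ∀ c, c ≠ a → c ≠ b → ¬ ∀ v ∈ V₁, du ε i a c * v = v * du ε i a c := by
    intro c hca hcb hall
    have h1 := hall v₀ hv₀
    have h2 := sw_du h hv₀H hvs a c
    rw [← h1, mul_inv_cancel_right, Equiv.swap_apply_left, Equiv.swap_apply_of_ne_of_ne hca hcb] at h2
    rcases (du_inj h (Ne.symm hca) (Ne.symm hcb) h2).2 with ⟨h3, -⟩ | ⟨h3, -⟩
    · exact hab h3
    · exact hca h3.symm
  have hdW' : ∀ x y, du ε i x y ∈ W' := fun x y => hVW (h.du_mem i x y)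
  -- the node at `V₁`
  have N1 : MixAny.Node V₁ W' W₁ n :=
    { card := hV4
      sq := hVsq
      n_mem := hnV
      n_ne := hn1
      trans := hVt
      nA := fun g hg y hy => clC_conj (hCn g hg) hy
      nC := fun g hg y hy => clC_conj (hCn g hg) hy
      A_comm := W'_comm
      A_sq := W'_sq
      C_comm := W₁_comm
      C_sq := W₁_sq
      n_A := hdW' a b
      V_C := hV₁W
      CA := fun c hc y hy => comm1 c (hW₁Q hc) y hy
      move := by
        by_contra hcon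
        push Not at hcon
        exact move o hoa hob fun v hv => hcon _ (hdW' a o) v hv }
  have s := N1.side
  let i₀ : MixAny.Pt V₁ := ⟨n, hnV, hn1⟩
  have hB : MixAny.tr W' n n = W' := N1.tr_n
  have hC₁ : MixAny.tr W₁ n n = W₁ := N1.tr_n'
  have hzn : normalizer (zpowers n : Set G) = C := N1.norm_zp
  set B₀ := ⨅ x : MixAny.Pt V₁, MixAny.tr W' n x.1 with hB₀
  -- letters
  obtain ⟨x, y, z, hxa, hxb, hya, hyb, hza, hzb, hxy, hxz, hyz⟩ : ∃ x y z : Fin (2 ^ m + 1),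
      x ≠ a ∧ x ≠ b ∧ y ≠ a ∧ y ≠ b ∧ z ≠ a ∧ z ≠ b ∧ x ≠ y ∧ x ≠ z ∧ y ≠ z := by
    have hc : 2 < (Finset.univ \ {a, b} : Finset (Fin (2 ^ m + 1))).card := by
      have h1 : (Finset.univ \ {a, b} : Finset (Fin (2 ^ m + 1))).card = 2 ^ m + 1 - ({a, b} : Finset _).card := by
        rw [Finset.card_sdiff_of_subset (Finset.subset_univ _), Finset.card_univ, Fintype.card_fin]
      have h2 : ({a, b} : Finset (Fin (2 ^ m + 1))).card ≤ 2 := Finset.card_le_two
      have h3 : 4 ≤ 2 ^ m := by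
        calc 4 = 2 ^ 2 := by norm_num
          _ ≤ 2 ^ m := Nat.pow_le_pow_right (by norm_num) hm
      omega
    obtain ⟨x, hx, y, hy, z, hz, h1, h2, h3⟩ := Finset.two_lt_card.1 hc
    simp only [Finset.mem_sdiff, Finset.mem_univ, true_and, Finset.mem_insert, Finset.mem_singleton, not_or] at hx hy hz
    exact ⟨x, y, z, hx.1, hx.2, hy.1, hy.2, hz.1, hz.2, h1, h2, h3⟩
  -- duads off `n` lie in `I`
  have hI : ∀ c d, c ≠ a → c ≠ b → d ≠ a → d ≠ b →
      du ε i c d ∈ MixAny.tr W' n n ⊓ Mix.YY (MixAny.tr W' n n) (MixAny.tr W₁ n n) := by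
    intro c d hca hcb hda hdb
    rw [hB, hC₁]
    have hcen : ∀ q ∈ o2 C, du ε i c d * q = q * du ε i c d := by
      intro q hq
      refine (hF.perp i a b hab q hq _ (h.du_mem i c d) ?_).symm
      rw [h.e_du, Pi.single_eq_same, Pi.add_apply, Pi.add_apply, Pi.single_eq_of_ne (Ne.symm hca),
        Pi.single_eq_of_ne (Ne.symm hda), Pi.single_eq_of_ne (Ne.symm hcb), Pi.single_eq_of_ne (Ne.symm hdb)]
    refine mem_inf.2 ⟨hdW' c d, ?_⟩
    rw [Mix.mem_YY]
    exact ⟨fun y hy => hcen y (hW'Q hy), fun y hy => hcen y (hW₁Q hy)⟩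
  -- good elements
  have good : ∀ c d e, c ≠ a → c ≠ b → d ≠ a → d ≠ b → e ≠ a → e ≠ b → c ≠ d → e ≠ c → e ≠ d → du ε i c d ∉ B₀ := by
    intro c d e hca hcb hda hdb hea heb hcd hec hed hz
    refine MixAny.false_of_goodPt s (i := i₀) hmemR (b := du ε i a e) (z := du ε i c d) (hB.symm ▸ hdW' a e)
      (move e hea heb) hz (hF.le i c d hcd (h.du_mem i a b)) fun q hq => ?_
    refine (hF.perp i c d hcd q hq _ (h.du_mem i a e) ?_).symm
    rw [h.e_du, Pi.single_eq_same, Pi.add_apply, Pi.add_apply, Pi.single_eq_of_ne hca,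
      Pi.single_eq_of_ne (Ne.symm hec), Pi.single_eq_of_ne hda, Pi.single_eq_of_ne (Ne.symm hed)]
  -- the count
  obtain ⟨j₁, hj₁, -⟩ := s.third i₀ i₀
  have hidx : B₀.relIndex (MixAny.tr W' n n ⊓ Mix.YY (MixAny.tr W' n n) (MixAny.tr W₁ n n)) ≤ 2 ^ (0 + 1) := by
    refine MixAny.relIndex_B0_le s (i := i₀) (j := j₁) hj₁.symm ?_ (T := T') ?_ (d := 0) ?_ (b := du ε i a o)
      (hB.symm ▸ hdW' a o) (move o hoa hob) hbT
    · change Nat.card (zpowers j₁.1) = 2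
      rw [Nat.card_zpowers]
      exact orderOf_eq_prime (by rw [pow_two]; exact hVsq _ j₁.2.1) j₁.2.2
    · change T' ≤ normalizer (zpowers n : Set G)
      rw [hzn]; exact hT
    · change ¬ 2 ^ (0 + 1) ∣ T'.relIndex (normalizer (zpowers n : Set G))
      rw [hzn, zero_add, pow_one]; exact hodd
  let f : Fin 3 → G := ![1, du ε i x y, du ε i x z]
  have hfI : ∀ t, f t ∈ MixAny.tr W' n n ⊓ Mix.YY (MixAny.tr W' n n) (MixAny.tr W₁ n n) := by
    intro t
    fin_cases t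
    · exact one_mem _
    · exact hI x y hxa hxb hya hyb
    · exact hI x z hxa hxb hza hzb
  obtain ⟨s', t', hst, hq⟩ := MixAny.exists_pigeon (B₀ := B₀) f hfI (by
    refine lt_of_le_of_lt hidx ?_
    rw [Nat.card_eq_fintype_card, Fintype.card_fin]
    norm_num)
  have inv_xy : (du ε i x y)⁻¹ = du ε i x y := h.inv_eq (h.du_mem i x y)
  have inv_xz : (du ε i x z)⁻¹ = du ε i x z := h.inv_eq (h.du_mem i x z)
  have h1 : du ε i x y ∉ B₀ := good x y z hxa hxb hya hyb hza hzb hxy (Ne.symm hxz) (Ne.symm hyz)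
  have h2 : du ε i x z ∉ B₀ := good x z y hxa hxb hza hzb hya hyb hxz (Ne.symm hxy) hyz
  have h3 : du ε i y z ∉ B₀ := good y z x hya hyb hza hzb hxa hxb hyz hxy hxz
  have e3 : du ε i x y * du ε i x z = du ε i y z := by
    rw [Lb.du_comm i x y, Lb.du_comm i x z]
    exact h.du_mul i y z x
  have e4 : du ε i x z * du ε i x y = du ε i y z := by
    rw [h.comm _ (h.du_mem i x z) _ (h.du_mem i x y), e3]
  fin_cases s' <;> fin_cases t'
  · exact hst rfl
  · refine h1 ?_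
    have : (f 0)⁻¹ * f 1 = du ε i x y := by change (1 : G)⁻¹ * du ε i x y = _; group
    rw [← this]; exact hq
  · refine h2 ?_
    have : (f 0)⁻¹ * f 2 = du ε i x z := by change (1 : G)⁻¹ * du ε i x z = _; group
    rw [← this]; exact hq
  · refine h1 ?_
    have : (f 1)⁻¹ * f 0 = du ε i x y := by change (du ε i x y)⁻¹ * 1 = _; rw [inv_xy, mul_one]
    rw [← this]; exact hq
  · exact hst rfl
  · refine h3 ?_
    have : (f 1)⁻¹ * f 2 = du ε i y z := by change (du ε i x y)⁻¹ * du ε i x z = _; rw [inv_xy, e3]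
    rw [← this]; exact hq
  · refine h2 ?_
    have : (f 2)⁻¹ * f 0 = du ε i x z := by change (du ε i x z)⁻¹ * 1 = _; rw [inv_xz, mul_one]
    rw [← this]; exact hq
  · refine h3 ?_
    have : (f 2)⁻¹ * f 1 = du ε i y z := by change (du ε i x z)⁻¹ * du ε i x y = _; rw [inv_xz, e4]
    rw [← this]; exact hq
  · exact hst rfl

end Cfsg.Agent.Omega.IId.SwCv.NatM

end

-- merged: Cfsg.Agent.Mrg.Omega.IId.SwCv.CutHat
section

section


/-!
# II.d, `SwCv K`: `SwMixW K` from SYL^ (helper79)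

`SylHat` (helper916, bb OMEGA #21666, partner-free form): `n = {a,b}` a duad whose transposition is induced by an element of
`S` and by an element of `K_n = {g ∈ C_G(n) : [O₂(C_G(n)), g] ≤ ⟨n⟩}`; then a subgroup of odd index in `C_G(n)`
normalises `{a,0}⟨n⟩`.

`swMixW_of : SylHat → SwMixW K` over helper48's `mix_w`.
-/

set_option autoImplicit false
set_option linter.unusedSectionVars false

namespace Cfsg.Agent.Omega.IId.SwCvC

open Subgroup Pointwise Cfsg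
open Cfsg.Agent.ZN.ChoiceBase hiding mem_zc
open Cfsg.Agent.ZN (o2 zc zl)
open Cfsg.Agent.Omega.MinPar Cfsg.Agent.Omega.Frame Cfsg.Agent.Omega.FFThm Cfsg.Agent.Omega.FrameMulti
open Cfsg.Agent.Omega.FrameFF (cv)
open Cfsg.Agent.Omega.IId.SwCv (Lb du FOne)
open Cfsg.Agent.Omega.IId.SwCv.Lb (SwA)
open Cfsg.Agent.Omega.IId.Cv (HypN)
open Cfsg.Agent.Omega.IId.Triangle (KK mem_KK)
open scoped commutatorElement

universe u

/-- **SYL^** (helper916), partner-free. -/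
def SylHat : Prop :=
  ∀ (G : Type u) [Group G] [Finite G] (S : Sylow 2 G) (P : Subgroup G) (k m : ℕ)
    (M : SymK (S : Subgroup G) P (zl (S : Subgroup G) P) (cv (S : Subgroup G) P) k m)
    (ε : Fin k → (Fin (2 ^ m + 1) → ZMod 2) → G), Lb M ε → IsCharacteristicTwoType G → 2 ≤ k → 2 ≤ m →
      IsParS (S : Subgroup G) P → FOne M ε → cv (S : Subgroup G) P ≠ ⊥ →
      ∀ (i : Fin k) (a b : Fin (2 ^ m + 1)), a ≠ b → (∃ s ∈ (S : Subgroup G), SwA M s i a b) →
        (∃ w ∈ KK (du ε i a b), SwA M w i a b) →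
        ∃ T' ≤ centralizer ({du ε i a b} : Set G), ¬ 2 ∣ T'.relIndex (centralizer ({du ε i a b} : Set G)) ∧
          ∀ t ∈ T', du ε i a 0 * t * (du ε i a 0)⁻¹ * t⁻¹ ∈ zpowers (du ε i a b)

/-- **MIX-W from SYL^.** -/
theorem swMixW_of (h : SylHat.{u}) (K : Cls.{u}) : SwMixW K := by
  classical
  intro G _ _ S hH P k m M ε hL hk hm hP hF hD i a b hab W₀ h4 hWS hn hWQ hcomm htr hmv hc hp
  exfalso
  obtain ⟨w, hw, hs⟩ := hmv
  have hwS := hWS hw
  have hSP := hP.isLoc.le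
  -- `0` is none of `a`, `b`
  have h0 : Equiv.swap a b 0 = 0 := by
    have h1 := M.fix0 w hwS _ _ hs i
    rwa [Function.update_self] at h1
  have ha0 : (0 : Fin (2 ^ m + 1)) ≠ a := by
    intro e
    rw [← e, Equiv.swap_apply_left] at h0
    exact hab (e.symm.trans h0.symm)
  have hb0 : (0 : Fin (2 ^ m + 1)) ≠ b := by
    intro e
    rw [← e, Equiv.swap_apply_right] at h0
    exact hab (h0.trans e)
  have hnn := hL.du_mul_self i a b
  have hn1 : du ε i a b ≠ 1 := hL.du_ne_one hab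
  have hwK : w ∈ KK (du ε i a b) := by
    have hwn : w * du ε i a b = du ε i a b * w := by
      have h1 := hWQ hw
      exact mem_centralizer_singleton_iff.1 (MinSimple.VModule.o2_le _ h1)
    refine mem_KK.2 ⟨hwn, fun x hx => ?_⟩
    have h1 := hcomm x hx w hw
    have e : w * x * w⁻¹ * x⁻¹ = (⁅x, w⁆)⁻¹ := by
      rw [commutatorElement_inv, commutatorElement_def]
    rw [e]
    rcases h1 with h1 | h1
    · rw [h1, inv_one]; exact one_mem _
    · rw [h1]; exact inv_mem (mem_zpowers _)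
  obtain ⟨T', hT, hodd, hbT⟩ := h G S P k m M ε hL hH.ctx.char2 hk hm hP hF hD i a b hab ⟨w, hwS, hs⟩ ⟨w, hwK, hs⟩
  refine SwCv.NatM.mix_w hL hF hab ha0 hb0 hm h4 ?_ hn ?_ hWQ ⟨w, hw, hSP hwS, hs⟩ hc ?_ hT hodd hbT
  · intro v hv
    by_cases hv1 : v = 1
    · rw [hv1, mul_one]
    · obtain ⟨g, -, e⟩ := htr _ hn v hv hn1 hv1
      rw [← e]
      calc g * du ε i a b * g⁻¹ * (g * du ε i a b * g⁻¹) = g * (du ε i a b * du ε i a b) * g⁻¹ := by group
        _ = 1 := by rw [hnn]; group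
  · intro v hv hv1
    exact htr _ hn v hv hn1 hv1
  · intro g hg v hv w' hw'
    by_contra hne
    exact hp ⟨g, hg, v, hv, w', hw', hne⟩

/-- **`SwCv K` from T-T and SYL^.** -/
theorem swCv_of'' {K : Cls.{u}} (hTT : SwTT K) (hW : SylHat.{u}) (hPair : Cv.TTPair K) (hU : NatUn K)
    (hFr : FreeFour K) : SwCv K :=
  swCv_of' hTT (swMixW_of hW K) hPair hU hFr

end Cfsg.Agent.Omega.IId.SwCvC

end

section


/-!
# II.d, `SwCv K`: SYL^ over `SymWrD.SitD` (helper79)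

`SylHatD` : SYL^ (helper916, bb OMEGA #21666) over helper573's `SitD`; `sylHat_of : SylHatD → SylHat`.
-/

set_option autoImplicit false
set_option linter.unusedSectionVars false

namespace Cfsg.Agent.Omega.IId.SwCvC

open Subgroup Pointwise Cfsg
open Cfsg.Agent.ZN.ChoiceBase hiding mem_zc
open Cfsg.Agent.ZN (o2 zc zl)
open Cfsg.Agent.Omega.MinPar Cfsg.Agent.Omega.Frame Cfsg.Agent.Omega.FFThm Cfsg.Agent.Omega.FrameMulti
open Cfsg.Agent.Omega.FrameFF (cv)
open Cfsg.Agent.Omega.Half.SymA (Pt E Mv)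
open Cfsg.Agent.Omega.IId.SwCv (Lb du FOne)
open Cfsg.Agent.Omega.IId.SwCv.Lb (SwA)
open Cfsg.Agent.Omega.IId.SymWrD (pr pp Fours SitD)
open Cfsg.Agent.Omega.IId.Triangle (KK mem_KK)
open Cfsg.Agent.Omega.HT.LineOf (Ln dd ln)
open scoped commutatorElement

universe u

/-- **SYL^** (helper916) over `SitD`. -/
def SylHatD : Prop :=
  ∀ (G : Type u) [Group G] [Finite G] (S : Sylow 2 G) (P V D : Subgroup G) (k m : ℕ)
    (M : SymK (S : Subgroup G) P V ⊥ k m), SitD S P V D M → IsCharacteristicTwoType G → 2 ≤ k → D ≠ ⊥ →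
      (∃ p q : Pt k m, p.1 = q.1 ∧ p ≠ q ∧ ∃ w ∈ KK (pr M p q), pp M w = Equiv.swap p q) →
      ∀ (μ ν : Equiv.Perm (Pt k m)) (_ : Fours M μ ν) (x : Pt k m), x.2 ≠ 0 →
        ∃ T ≤ centralizer ({pr M x (μ x)} : Set G), ¬ 2 ∣ T.relIndex (centralizer ({pr M x (μ x)} : Set G)) ∧
          ∀ t ∈ T, t * pr M x (x.1, 0) * t⁻¹ = pr M x (x.1, 0) ∨
            t * pr M x (x.1, 0) * t⁻¹ = pr M x (μ x) * pr M x (x.1, 0)

/-- an element of the normaliser of `{1, a, b, ab}` which commutes with `a` -/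
theorem conj_of_ln {G : Type u} [Group G] {a b : G} (h : Ln a b) {t : G} (ht : t ∈ normalizer (ln h : Set G))
    (hta : t * a = a * t) : t * b * t⁻¹ = b ∨ t * b * t⁻¹ = a * b := by
  have h1 : t * b * t⁻¹ ∈ ln h := (mem_normalizer_iff.1 ht b).1 ((mem_ln_iff h).2 (Or.inr (Or.inr (Or.inl rfl))))
  rcases (mem_ln_iff h).1 h1 with h2 | h2 | h2 | h2
  · exfalso
    apply h.b1
    have e : b = t⁻¹ * (t * b * t⁻¹) * t := by group
    rw [e, h2]; group
  · exfalso
    apply h.ne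
    have e : b = t⁻¹ * (t * b * t⁻¹) * t := by group
    rw [e, h2]
    calc a = t⁻¹ * (t * a) := by group
      _ = t⁻¹ * a * t := by rw [hta]; group
  · exact Or.inl h2
  · exact Or.inr h2

section bridge

variable {G : Type u} [Group G] [Finite G] {S : Sylow 2 G} {P : Subgroup G} {k m : ℕ}
  {M : SymK (S : Subgroup G) P (zl (S : Subgroup G) P) (cv (S : Subgroup G) P) k m}
  {ε : Fin k → (Fin (2 ^ m + 1) → ZMod 2) → G}

theorem pp_swap (hL : Lb M ε) (hG : IsCharacteristicTwoType G) (hP : IsParS (S : Subgroup G) P) (hk : 0 < k)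
    (hm : 2 ≤ m) {w : G} (hw : w ∈ P) {i : Fin k} {a b : Fin (2 ^ m + 1)} (hs : SwA M w i a b) :
    pp hL.toBot w = Equiv.swap ((i, a) : Pt k m) (i, b) := by
  classical
  have h := SymWrD.sitD_of_lb hG hP hL hk hm
  refine SymWrD.pp_eq h.toSit.amb h.toSit.hm1 hw ?_
  intro v hv p
  obtain ⟨j, x⟩ := p
  have h1 := hs v (hL.A_le hv) j x
  have h2 : Equiv.swap ((i, a) : Pt k m) (i, b) (j, x) =
      (j, (Function.update (1 : Fin k → Equiv.Perm (Fin (2 ^ m + 1))) i (Equiv.swap a b)) j x) := by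
    by_cases hj : j = i
    · subst hj
      rw [Function.update_self]
      by_cases hxa : x = a
      · subst hxa
        rw [Equiv.swap_apply_left, Equiv.swap_apply_left]
      · by_cases hxb : x = b
        · subst hxb
          rw [Equiv.swap_apply_right, Equiv.swap_apply_right]
        · rw [Equiv.swap_apply_of_ne_of_ne hxa hxb, Equiv.swap_apply_of_ne_of_ne]
          · exact fun e => hxa (congrArg Prod.snd e)
          · exact fun e => hxb (congrArg Prod.snd e)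
    · rw [Function.update_of_ne hj, Equiv.swap_apply_of_ne_of_ne]
      · rfl
      · exact fun e => hj (congrArg Prod.fst e)
      · exact fun e => hj (congrArg Prod.fst e)
  rw [h2]
  exact h1

/-- a duad whose transposition is induced by `S` -/
theorem mu_eq (hL : Lb M ε) (hG : IsCharacteristicTwoType G) (hP : IsParS (S : Subgroup G) P) (hk : 0 < k)
    (hm : 2 ≤ m) {μ ν : Equiv.Perm (Pt k m)} (F : Fours hL.toBot μ ν) {s : G} (hs : s ∈ (S : Subgroup G))
    {i : Fin k} {a b : Fin (2 ^ m + 1)} (hab : a ≠ b) (ha : a ≠ 0) (hsw : SwA M s i a b) :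
    μ ((i, a) : Pt k m) = (i, b) := by
  have h1 := pp_swap hL hG hP hk hm (hL.TH hs) hsw
  have h2 := F.meqv s hs (i, a)
  rw [h1, Equiv.swap_apply_left] at h2
  by_contra hne
  have h3 : μ ((i, a) : Pt k m) ≠ (i, a) := F.mne _ ha
  rw [Equiv.swap_apply_of_ne_of_ne h3 hne] at h2
  exact hab (congrArg Prod.snd (μ.injective h2))

end bridge

/-- **SYL^ in the labels.** -/
theorem sylHat_of (h : SylHatD.{u}) : SylHat.{u} := by
  classical
  intro G _ _ S P k m M ε hL hG hk hm hP hF hD i a b hab ⟨s, hs, hsw⟩ ⟨w, hw, hww⟩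
  have hk0 : 0 < k := by omega
  have hsit := SymWrD.sitD_of_lb hG hP hL hk0 hm
  obtain ⟨μ, ν, F⟩ := SymWrD.exists_fours hsit.toSit
  -- `0` is not `a`
  have h0 : Equiv.swap a b 0 = 0 := by
    have h1 := M.fix0 s hs _ _ hsw i
    rwa [Function.update_self] at h1
  have ha0 : a ≠ 0 := by
    intro e
    rw [e, Equiv.swap_apply_left] at h0
    exact hab (e.trans h0.symm)
  have hmu := mu_eq hL hG hP hk0 hm F hs hab ha0 hsw
  have hn : du ε i a b = pr hL.toBot ((i, a) : Pt k m) (μ (i, a)) := by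
    rw [hmu]; exact SymWrD.du_eq_pr hL i a b
  have hb0 : du ε i a 0 = pr hL.toBot ((i, a) : Pt k m) (i, 0) := SymWrD.du_eq_pr hL i a 0
  have hwP : w ∈ P := by
    have h1 : w ∈ o2 (centralizer ({du ε i a b} : Set G)) :=
      MinSimple.Geo.mem_o2_of_stab hG (hL.du_mul_self i a b) (hL.du_ne_one hab)
        (mem_centralizer_singleton_iff.2 (mem_KK.1 hw).1) (mem_KK.1 hw).2
    exact o2_le_P hG hP hL hk0 hm hab h1
  obtain ⟨T, hT, hodd, ht⟩ := h G S P hL.A (cv (S : Subgroup G) P) k m hL.toBot hsit hG hk hD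
    ⟨(i, a), (i, b), rfl, fun e => hab (congrArg Prod.snd e), w, by rwa [← SymWrD.du_eq_pr hL i a b],
      pp_swap hL hG hP hk0 hm hwP hww⟩ μ ν F (i, a) ha0
  rw [← hn] at hT hodd
  refine ⟨T, hT, hodd, fun t htT => ?_⟩
  have h1 := ht t htT
  rw [← hn] at h1
  change t * pr hL.toBot ((i, a) : Pt k m) (i, 0) * t⁻¹ = pr hL.toBot ((i, a) : Pt k m) (i, 0) ∨
    t * pr hL.toBot ((i, a) : Pt k m) (i, 0) * t⁻¹ = du ε i a b * pr hL.toBot ((i, a) : Pt k m) (i, 0) at h1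
  rw [← hb0] at h1
  have hbb := hL.du_mul_self i a 0
  have hnb := hL.comm _ (hL.du_mem i a b) _ (hL.du_mem i a 0)
  have hbi : (du ε i a 0)⁻¹ = du ε i a 0 := inv_eq_of_mul_eq_one_left hbb
  have e : du ε i a 0 * t * (du ε i a 0)⁻¹ * t⁻¹ = du ε i a 0 * (t * du ε i a 0 * t⁻¹) := by
    rw [hbi]; group
  rw [e]
  rcases h1 with h1 | h1
  · rw [h1, hbb]; exact one_mem _
  · rw [h1, hnb, ← mul_assoc, hbb, one_mul]; exact mem_zpowers _

end Cfsg.Agent.Omega.IId.SwCvC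

end

end

-- merged: Cfsg.Agent.Mrg.Omega.IId.SwCv.SdOf
section

/-!
# II.d, SwCv: the frame `SymWrD.SD` for a member with labels, from ANY partner (helper747)

* `pp_of_swA` : `SwA M u i a b` implies `pp hL.toBot u = swap (i, a) (i, b)`;
* `sd_of` : `SD S P hL.A hL.toBot` from F1 and ONE element `w ∈ K_n` which acts as the transposition of the duad `n`;
* `TT.mem_KK`, `TT.sd` : the case of a partner of type T.
-/

set_option autoImplicit false
set_option linter.unusedSectionVars false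

namespace Cfsg.Agent.Omega.IId.SwCv

open Subgroup Cfsg Cfsg.Agent.ZN Cfsg.Agent.Omega.FFThm Cfsg.Agent.Omega.MinPar
open Cfsg.Agent.Omega.FrameFF (cv)
open Cfsg.Agent.Omega.Half.SymA (Pt E Mv pm Amb0)
open Cfsg.Agent.Omega.IId.SymWrD
open Cfsg.Agent.Omega.IId.Triangle (KK mem_KK KK_conj mem_zpowers_iff_of_sq)
open Lb (SwA)
open scoped commutatorElement Classical

universe u

variable {G : Type u} [Group G] [Finite G] {S : Sylow 2 G} {P : Subgroup G} {k m : ℕ}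
  {M : SymK (S : Subgroup G) P (zl (S : Subgroup G) P) (cv (S : Subgroup G) P) k m}
  {ε : Fin k → (Fin (2 ^ m + 1) → ZMod 2) → G}

theorem pm_swap (i : Fin k) (a b : Fin (2 ^ m + 1)) :
    pm (1 : Equiv.Perm (Fin k)) (Function.update 1 i (Equiv.swap a b)) = Equiv.swap ((i, a) : Pt k m) (i, b) := by
  ext1 ⟨j, x⟩
  change ((j, (Function.update (1 : Fin k → Equiv.Perm (Fin (2 ^ m + 1))) i (Equiv.swap a b) j) x) : Pt k m) = _
  by_cases hj : j = i
  · subst hj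
    rw [Function.update_self]
    by_cases hx : x = a
    · subst hx
      rw [Equiv.swap_apply_left, Equiv.swap_apply_left]
    by_cases hx' : x = b
    · subst hx'
      rw [Equiv.swap_apply_right, Equiv.swap_apply_right]
    · rw [Equiv.swap_apply_of_ne_of_ne hx hx', Equiv.swap_apply_of_ne_of_ne]
      · exact fun h => hx (congrArg Prod.snd h)
      · exact fun h => hx' (congrArg Prod.snd h)
  · rw [Function.update_of_ne hj, Equiv.swap_apply_of_ne_of_ne]
    · rfl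
    · exact fun h => hj (congrArg Prod.fst h)
    · exact fun h => hj (congrArg Prod.fst h)

theorem pp_of_swA (hL : Lb M ε) (hA : Amb0 (S : Subgroup G) P hL.A) (hm : 1 ≤ m) {u : G} (hu : u ∈ P) {i : Fin k}
    {a b : Fin (2 ^ m + 1)} (hs : SwA M u i a b) : pp hL.toBot u = Equiv.swap ((i, a) : Pt k m) (i, b) := by
  rw [← pm_swap]
  refine pp_eq hA hm hu (Half.SymA.mv_pm hL.toBot ?_)
  intro v hv j x
  exact hs v (hL.A_le hv) j x

/-- **The frame `SD`.** -/
theorem sd_of (hG : IsCharacteristicTwoType G) (hP : IsParS (S : Subgroup G) P) (hL : Lb M ε) (hk : 0 < k)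
    (hm : 2 ≤ m) {i : Fin k} {a b : Fin (2 ^ m + 1)} (hab : a ≠ b) {w : G} (hw : w ∈ KK (du ε i a b)) (hwP : w ∈ P)
    (hs : SwA M w i a b) : SD S P hL.A hL.toBot := by
  have hD := sitD_of_lb hG hP hL hk hm
  have h := hD.toSit
  have hF := fOne_all hG hP hL hk hm
  have hLd : ∀ {p q : Pt k m}, p.1 = q.1 → p ≠ q → ∀ g ∈ o2 (centralizer ({pr hL.toBot p q} : Set G)),
      g ∈ P ∧ (pp hL.toBot g = 1 ∨ pp hL.toBot g = Equiv.swap p q) := fun hpq hne => L_dat hD hpq hne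
  have hne0 : ((i, a) : Pt k m) ≠ (i, b) := fun h0 => hab (congrArg Prod.snd h0)
  have hdu := du_eq_pr hL i a b
  refine { toSit := h, c2 := hG, QP := fun p q hpq hne x hx => (hLd hpq hne x hx).1,
           Qpp := fun p q hpq hne x hx => (hLd hpq hne x hx).2, VQ := ?_, par := ?_ }
  · rintro ⟨j, x⟩ ⟨j', y⟩ hpq hne
    change j = j' at hpq
    subst hpq
    have h1 := du_eq_pr hL j x y
    have h2 := hF.le j x y fun h0 => hne (by rw [h0])
    rw [h1] at h2
    exact hL.A_le.trans h2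
  · intro p q hpq hne
    obtain ⟨g, hg, h1⟩ := exists_conj_pr h (x := ((i, a) : Pt k m)) (y := (i, b)) rfl hne0 hpq hne
    refine ⟨g * w * g⁻¹, ?_, ?_⟩
    · have h2 := KK_conj (h := g) hw
      rwa [hdu, h1] at h2
    · have h3 := pp_of_swA hL h.amb (by omega) hwP hs
      rw [h.conj hg hwP, h3, ← Equiv.swap_apply_apply]
      have h4 : pr hL.toBot (pp hL.toBot g (i, a)) (pp hL.toBot g (i, b)) = pr hL.toBot p q := by
        rw [← h.conj_pr hg (p := ((i, a) : Pt k m)) (q := (i, b)) rfl, h1]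
      exact swap_eq_of_pr (h.fst hg (p := ((i, a) : Pt k m)) (q := (i, b)) rfl)
        (fun h0 => hne0 ((pp hL.toBot g).injective h0)) hpq hne h4

/-- `u ∈ K_n` from `[O₂(C_G(n)), u] ≤ ⟨n⟩` -/
theorem mem_KK_of {n u : G} (hn : n * n = 1) (hu : u * n = n * u)
    (hc : ∀ x ∈ o2 (centralizer ({n} : Set G)), ⁅x, u⁆ = 1 ∨ ⁅x, u⁆ = n) : u ∈ KK n := by
  refine mem_KK.2 ⟨hu, fun x hx => ?_⟩
  have e : u * x * u⁻¹ * x⁻¹ = (⁅x, u⁆)⁻¹ := by rw [commutatorElement_def]; group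
  rw [e, mem_zpowers_iff_of_sq hn]
  rcases hc x hx with h | h
  · left; rw [h, inv_one]
  · right; rw [h]; exact inv_eq_of_mul_eq_one_left hn

section tt

variable {S' : Sylow 2 G} {P' : Subgroup G} {k' m' : ℕ}
  {M' : SymK (S' : Subgroup G) P' (zl (S' : Subgroup G) P') (cv (S' : Subgroup G) P') k' m'}
  {ε' : Fin k' → (Fin (2 ^ m' + 1) → ZMod 2) → G}
  {i : Fin k} {a b : Fin (2 ^ m + 1)} {i' : Fin k'} {a' b' : Fin (2 ^ m' + 1)}

/-- `V' ≤ K_n` -/
theorem TT.mem_KK (t : TT S S' P P' M M' ε ε' i a b i' a' b') (h' : Lb M' ε') (hF' : FOne M' ε') {u : G}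
    (hu : u ∈ zl (S' : Subgroup G) P') : u ∈ KK (du ε i a b) := by
  rw [t.eq]
  refine mem_KK_of (h'.du_mul_self i' a' b') (h'.comm u hu _ (h'.du_mem i' a' b')) fun x hx => ?_
  exact hF'.comm i' a' b' t.ne' x hx u hu

/-- **The frame `SD` for a pair of types T, T.** -/
theorem TT.sd (t : TT S S' P P' M M' ε ε' i a b i' a' b') (hG : IsCharacteristicTwoType G) (h : Lb M ε)
    (h' : Lb M' ε') (hk : 0 < k) (hm : 2 ≤ m) (hF' : FOne M' ε') : SD S P h.A h.toBot := by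
  obtain ⟨u, hu, hs⟩ := t.sw
  exact sd_of hG t.pair.star h hk hm t.ne (t.mem_KK h' hF' hu) (t.pair.star.isLoc.le (t.pair.le hu)) hs

end tt

end Cfsg.Agent.Omega.IId.SwCv

end

-- merged: Cfsg.Agent.Mrg.Omega.IId.SwCv.SylHatOf
section

/-!
# II.d, `SwCv K`: `SylHat` from helper916's frame `Hw.Fw` (helper79)

`ExHat` : `Fw.exists_hat` (bb OMEGA #22794) as a proposition; `sylHat_of_fw : ExHat → SylHat`.
-/

set_option autoImplicit false
set_option linter.unusedSectionVars false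

namespace Cfsg.Agent.Omega.IId.SwCvC

open Subgroup Pointwise Cfsg
open Cfsg.Agent.ZN.ChoiceBase hiding mem_zc
open Cfsg.Agent.ZN (o2 zc zl)
open Cfsg.Agent.Omega.MinPar Cfsg.Agent.Omega.Frame Cfsg.Agent.Omega.FFThm Cfsg.Agent.Omega.FrameMulti
open Cfsg.Agent.Omega.FrameFF (cv)
open Cfsg.Agent.Omega.Half.SymA (Pt E Mv)
open Cfsg.Agent.Omega.IId.SwCv (Lb du FOne)
open Cfsg.Agent.Omega.IId.SwCv.Lb (SwA)
open Cfsg.Agent.Omega.IId.SymWrD (pr pp Fours SitD)
open Cfsg.Agent.Omega.IId.SymWrD.Ht (DD mem_DD)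
open Cfsg.Agent.Omega.IId.Triangle (KK mem_KK)

universe u

/-- `Fw.exists_hat` (helper916). -/
def ExHat : Prop :=
  ∀ (G : Type u) [Group G] [Finite G] (S : Sylow 2 G) (P V D : Subgroup G) (k m : ℕ)
    (M : SymK (S : Subgroup G) P V ⊥ k m), SymWrD.Hw.Fw S P V D M →
      ∀ (μ ν : Equiv.Perm (Pt k m)) (_ : Fours M μ ν) (x : Pt k m), x.2 ≠ 0 → zc (o2 P) ≤ V ⊔ DD M →
        4 ≤ Nat.card (zc (S : Subgroup G)) →
        ∃ T ≤ centralizer ({pr M x (μ x)} : Set G), ¬ 2 ∣ T.relIndex (centralizer ({pr M x (μ x)} : Set G)) ∧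
          ∀ t ∈ T, t * pr M x (x.1, 0) * t⁻¹ = pr M x (x.1, 0) ∨
            t * pr M x (x.1, 0) * t⁻¹ = pr M x (x.1, 0) * pr M x (μ x)

/-- (ZV_D) in the form used -/
theorem zv_of {G : Type u} [Group G] [Finite G] {S : Sylow 2 G} {P V D : Subgroup G} {k m : ℕ}
    {M : SymK (S : Subgroup G) P V ⊥ k m} (hG : IsCharacteristicTwoType G) (h : SitD S P V D M)
    (hw : ∃ p q : Pt k m, p.1 = q.1 ∧ p ≠ q ∧ ∃ w ∈ KK (pr M p q), pp M w = Equiv.swap p q) :
    zc (o2 P) ≤ V ⊔ DD M := by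
  intro z hz
  obtain ⟨v, hv, d, hd, e, h1, -⟩ := (SymWrD.Ht.TD.of_sitD hG h hw).zvD hz
  rw [e]
  exact mul_mem (mem_sup_left hv) (mem_sup_right (mem_DD.2 ⟨hd, h1⟩))

/-- **SYL^ in the labels.** -/
theorem sylHat_of_fw (h : ExHat.{u}) : SylHat.{u} := by
  classical
  intro G _ _ S P k m M ε hL hG hk hm hP hF hD i a b hab ⟨s, hs, hsw⟩ ⟨w, hw, hww⟩
  have hk0 : 0 < k := by omega
  have hsit := SymWrD.sitD_of_lb hG hP hL hk0 hm
  obtain ⟨μ, ν, F⟩ := SymWrD.exists_fours hsit.toSit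
  -- `0` is not `a`
  have h0 : Equiv.swap a b 0 = 0 := by
    have h1 := M.fix0 s hs _ _ hsw i
    rwa [Function.update_self] at h1
  have ha0 : a ≠ 0 := by
    intro e
    rw [e, Equiv.swap_apply_left] at h0
    exact hab (e.trans h0.symm)
  have hmu := mu_eq hL hG hP hk0 hm F hs hab ha0 hsw
  have hn : du ε i a b = pr hL.toBot ((i, a) : Pt k m) (μ (i, a)) := by
    rw [hmu]; exact SymWrD.du_eq_pr hL i a b
  have hb0 : du ε i a 0 = pr hL.toBot ((i, a) : Pt k m) (i, 0) := SymWrD.du_eq_pr hL i a 0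
  have hwP : w ∈ P := by
    have h1 : w ∈ o2 (centralizer ({du ε i a b} : Set G)) :=
      MinSimple.Geo.mem_o2_of_stab hG (hL.du_mul_self i a b) (hL.du_ne_one hab)
        (mem_centralizer_singleton_iff.2 (mem_KK.1 hw).1) (mem_KK.1 hw).2
    exact o2_le_P hG hP hL hk0 hm hab h1
  have hpar : ∃ p q : Pt k m, p.1 = q.1 ∧ p ≠ q ∧ ∃ w ∈ KK (pr hL.toBot p q), pp hL.toBot w = Equiv.swap p q :=
    ⟨(i, a), (i, b), rfl, fun e => hab (congrArg Prod.snd e), w, by rwa [← SymWrD.du_eq_pr hL i a b],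
      pp_swap hL hG hP hk0 hm hwP hww⟩
  have hsd := SwCv.sd_of hG hP hL hk0 hm hab hw hwP hww
  obtain ⟨T, hT, hodd, ht⟩ := h G S P hL.A (cv (S : Subgroup G) P) k m hL.toBot
    (SymWrD.Hw.Fw.of_sd hsit hsd) μ ν F (i, a) ha0 (zv_of hG hsit hpar) (four_le_zc hL hk0 hD)
  rw [← hn] at hT hodd
  refine ⟨T, hT, hodd, fun t htT => ?_⟩
  have h1 := ht t htT
  rw [← hn] at h1
  change t * pr hL.toBot ((i, a) : Pt k m) (i, 0) * t⁻¹ = pr hL.toBot ((i, a) : Pt k m) (i, 0) ∨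
    t * pr hL.toBot ((i, a) : Pt k m) (i, 0) * t⁻¹ = pr hL.toBot ((i, a) : Pt k m) (i, 0) * du ε i a b at h1
  rw [← hb0] at h1
  have hbb := hL.du_mul_self i a 0
  have hbi : (du ε i a 0)⁻¹ = du ε i a 0 := inv_eq_of_mul_eq_one_left hbb
  have e : du ε i a 0 * t * (du ε i a 0)⁻¹ * t⁻¹ = du ε i a 0 * (t * du ε i a 0 * t⁻¹) := by
    rw [hbi]; group
  rw [e]
  rcases h1 with h1 | h1
  · rw [h1, hbb]; exact one_mem _
  · rw [h1, ← mul_assoc, hbb, one_mul]; exact mem_zpowers _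

end Cfsg.Agent.Omega.IId.SwCvC

end

-- merged: Cfsg.Agent.Mrg.Omega.IId.SymWrD.Hw.SylEnd
section

section


/-!
# THEOREM SYL^ (bb OMEGA #21666, helper916), steps (4) - (7) (helper48)

`Fw.syl_end` : there is no `1 ≠ κ ∈ Ω₁Z(T) ∩ C(X)` and `g ∈ C(κ)` with `n^g = n κ`, `r₂^g = r₂ κ`.
-/

set_option autoImplicit false
set_option linter.unusedSectionVars false

namespace Cfsg.Agent.Omega.IId.SymWrD.Hw

open Subgroup Cfsg Cfsg.Agent.Omega.MinPar Cfsg.Agent.Omega.FFThm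
open Cfsg.Agent.ZN (o2 zc)
open Cfsg.Agent.Omega.Half.SymA (Pt E Mv pm)
open Cfsg.Agent.Omega.HT.LineOf (Ln ln pts dd)
open Cfsg.Agent.Omega.IId.Triangle (KK mem_KK KK_conj KK_le_o2)
open Cfsg.Agent.MinSimple.VModule (le_normalizer_o2 o2_isPGroup o2_le mem_zc zc_le normalizer_le_normalizer_zc)
open Cfsg.Agent.MinSimple.Geo (mem_o2_of_stab)
open Ht (DD mem_DD Fr Tri tn)

universe u

variable {G : Type u} [Group G] {k m : ℕ}

namespace Fw

variable {S : Sylow 2 G} {P V D : Subgroup G} {M : SymK (S : Subgroup G) P V ⊥ k m} (h : Fw S P V D M)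
  {μ ν : Equiv.Perm (Pt k m)} (F : Fours M μ ν) {x : Pt k m} (hx : x.2 ≠ 0)
include h F hx

/-- `O₂(C_G(n)) ≤ T` -/
theorem Qn_le [Finite G] {T : Subgroup G} (hTT : tn S M μ x ≤ T) (hTp : IsPGroup 2 T)
    (hmax : ∀ R : Subgroup G, IsPGroup 2 R → T ≤ R → R ≤ normalizer (ln (h.line3 (h.tri F hx)) : Set G) → R ≤ T)
    (hTN : T ≤ normalizer (ln (h.line3 (h.tri F hx)) : Set G)) : o2 (centralizer ({pr M x (μ x)} : Set G)) ≤ T := by
  have t := h.tri F hx
  have hTa := h.T_le_cen F hx hTT hTp hTN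
  have hQN : o2 (centralizer ({pr M x (μ x)} : Set G)) ≤ normalizer (ln (h.line3 (h.tri F hx)) : Set G) := by
    intro g hg
    refine BTwo.mem_normalizer_of_conj fun v hv => ?_
    rcases h.comm_mem t.pq t.n1 hg (h.ln_le t hv) with e | e
    · rw [e]; exact hv
    · rw [e]; exact mul_mem hv ((h.line3 t).dd_mem 0)
  have h1 : IsPGroup 2 (T ⊔ o2 (centralizer ({pr M x (μ x)} : Set G)) : Subgroup G) :=
    IsPGroup.to_sup_of_normal_right' hTp (o2_isPGroup _) (hTa.trans (le_normalizer_o2 _))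
  exact le_sup_right.trans (hmax _ h1 le_sup_left (sup_le hTN hQN))

/-- **SYL^, steps (4) - (7)** -/
theorem syl_end [Finite G] (zv : zc (o2 P) ≤ V ⊔ DD M) {T : Subgroup G} (hTT : tn S M μ x ≤ T) (hTp : IsPGroup 2 T)
    (hmax : ∀ R : Subgroup G, IsPGroup 2 R → T ≤ R → R ≤ normalizer (ln (h.line3 (h.tri F hx)) : Set G) → R ≤ T)
    (hTN : T ≤ normalizer (ln (h.line3 (h.tri F hx)) : Set G)) {κ g : G} (hk : κ ∈ zc T) (hk1 : κ ≠ 1)
    (hkX : ∀ y ∈ h.XK (h.tri F hx), y * κ = κ * y) (hgk : g * κ = κ * g)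
    (hga : g * pr M x (μ x) * g⁻¹ = pr M x (μ x) * κ) (hgb : g * pr M x (x.1, 0) * g⁻¹ = pr M x (x.1, 0) * κ) :
    False := by
  classical
  have t := h.tri F hx
  have hTa := h.T_le_cen F hx hTT hTp hTN
  have hQT := h.Qn_le F hx hTT hTp hmax hTN
  have hkT := (mem_zc.1 hk).2.1
  have hk2 : κ * κ = 1 := by rw [← pow_two]; exact (mem_zc.1 hk).2.2
  have hkt := h.zcT_le F hx hTT hTp hTN hk
  have hn1 := h.pr_ne t.pq t.n1
  obtain ⟨n, hn⟩ : ∃ n, n = pr M x (μ x) := ⟨_, rfl⟩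
  obtain ⟨r, hr⟩ : ∃ r, r = pr M x (x.1, 0) := ⟨_, rfl⟩
  have hnn : n * n = 1 := by rw [hn]; exact h.pr_sq
  have hrr : r * r = 1 := by rw [hr]; exact h.pr_sq
  have hnV : n ∈ V := by rw [hn]; exact pr_mem M _ _
  have hrV : r ∈ V := by rw [hr]; exact pr_mem M _ _
  have hVT : V ≤ T := (h.V_le_tn F hx).trans hTT
  have hnk : n * κ = κ * n := hkT n (hVT hnV)
  have hrk : r * κ = κ * r := hkT r (hVT hrV)
  -- `κ ∈ Ω₁Z(Q_n)`
  have hkQ : κ ∈ zc (o2 (centralizer ({pr M x (μ x)} : Set G))) := by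
    refine mem_zc.2 ⟨?_, fun q hq => hkT q (hQT hq), (mem_zc.1 hk).2.2⟩
    refine mem_o2_of_stab h.char2 h.pr_sq hn1 (hTa (zc_le _ hk)) fun q hq => ?_
    have e : κ * q * κ⁻¹ * q⁻¹ = 1 := by rw [← hkT q (hQT hq)]; group
    rw [e]; exact one_mem _
  obtain ⟨p, hp⟩ : ∃ p, p = n * κ := ⟨_, rfl⟩
  have hga' : g * n * g⁻¹ = p := by rw [hn, hga, hp, hn]
  have hgb' : g * r * g⁻¹ = r * κ := by rw [hr, hgb]
  have hcen : o2 (centralizer ({p} : Set G)) =
      (o2 (centralizer ({pr M x (μ x)} : Set G))).map (MulAut.conj g).toMonoidHom := by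
    rw [← hga', hn]; exact Triangle.o2_cent_conj g _
  have hmem : ∀ {a : G}, a ∈ o2 (centralizer ({pr M x (μ x)} : Set G)) → g * a * g⁻¹ ∈ o2 (centralizer ({p} : Set G)) := by
    intro a ha
    rw [hcen]; exact ⟨a, ha, rfl⟩
  have hmem' : ∀ {a : G}, a ∈ zc (o2 (centralizer ({pr M x (μ x)} : Set G))) →
      g * a * g⁻¹ ∈ zc (o2 (centralizer ({p} : Set G))) := by
    intro a ha
    have h1 := mem_zc.1 ha
    refine mem_zc.2 ⟨hmem h1.1, fun q hq => ?_, ?_⟩
    · rw [hcen] at hq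
      obtain ⟨b, hb, rfl⟩ := hq
      have h2 := h1.2.1 b hb
      show g * b * g⁻¹ * (g * a * g⁻¹) = g * a * g⁻¹ * (g * b * g⁻¹)
      calc g * b * g⁻¹ * (g * a * g⁻¹) = g * (b * a) * g⁻¹ := by group
        _ = g * a * g⁻¹ * (g * b * g⁻¹) := by rw [h2]; group
    · have h2 := h1.2.2
      rw [pow_two] at h2 ⊢
      calc g * a * g⁻¹ * (g * a * g⁻¹) = g * (a * a) * g⁻¹ := by group
        _ = 1 := by rw [h2]; group
  have hkQp : κ ∈ zc (o2 (centralizer ({p} : Set G))) := by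
    have h1 := hmem' hkQ
    rwa [hgk, mul_inv_cancel_right] at h1
  have hnQ : n ∈ zc (o2 (centralizer ({pr M x (μ x)} : Set G))) := by
    refine mem_zc.2 ⟨by rw [hn]; exact h.V_le t.pq t.n1 (pr_mem M _ _), fun q hq => ?_, by rw [pow_two]; exact hnn⟩
    rw [hn]; exact mem_centralizer_singleton_iff.1 (o2_le _ hq)
  have hpQp : p ∈ zc (o2 (centralizer ({p} : Set G))) := by
    have h1 := hmem' hnQ
    rwa [hga'] at h1
  have hnQp : n ∈ zc (o2 (centralizer ({p} : Set G))) := by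
    have e : n = p * κ := by rw [hp, mul_assoc, hk2, mul_one]
    rw [e]; exact mul_mem hpQp hkQp
  have hrQp : r ∈ o2 (centralizer ({p} : Set G)) := by
    have e : r = g * r * g⁻¹ * κ := by rw [hgb', mul_assoc, hk2, mul_one]
    have h1 : g * r * g⁻¹ ∈ o2 (centralizer ({p} : Set G)) := by
      refine hmem ?_
      rw [hr]; exact h.V_le t.pq t.n1 (pr_mem M _ _)
    rw [e]; exact mul_mem h1 (zc_le _ hkQp)
  -- **(4)**
  obtain ⟨N, hN⟩ : ∃ N : Subgroup G, N = closure {a | ∃ c ∈ centralizer ({p} : Set G), a = c * n * c⁻¹} := ⟨_, rfl⟩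
  have hnN : n ∈ N := by
    rw [hN]; exact subset_closure ⟨1, one_mem _, by group⟩
  have hCN : centralizer ({p} : Set G) ≤ normalizer (N : Set G) := by
    intro s hs
    refine BTwo.mem_normalizer_of_conj fun a ha => ?_
    have hle : N ≤ N.comap (MulAut.conj s).toMonoidHom := by
      nth_rw 1 [hN]
      rw [closure_le]
      rintro _ ⟨c, hc, rfl⟩
      show s * (c * n * c⁻¹) * s⁻¹ ∈ N
      rw [hN]
      exact subset_closure ⟨s * c, mul_mem hs hc, by group⟩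
    exact hle ha
  have hNZ : N ≤ zc (o2 (centralizer ({p} : Set G))) := by
    rw [hN, closure_le]
    rintro _ ⟨c, hc, rfl⟩
    exact (mem_normalizer_iff.1 (((le_normalizer_o2 _).trans (normalizer_le_normalizer_zc _)) hc) n).1 hnQp
  have hNab : ∀ a ∈ N, ∀ b ∈ N, a * b = b * a := fun a ha b hb =>
    (mem_zc.1 (hNZ hb)).2.1 a (zc_le _ (hNZ ha))
  have hTp' : T ≤ centralizer ({p} : Set G) := by
    intro s hs
    rw [mem_centralizer_singleton_iff, hp, ← mul_assoc]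
    have h1 : s * n = n * s := by rw [hn]; exact mem_centralizer_singleton_iff.1 (hTa hs)
    rw [h1, mul_assoc, hkT s hs, mul_assoc]
  have hNr : ∀ y ∈ N, y * r = r * y := fun y hy => ((mem_zc.1 (hNZ hy)).2.1 r hrQp).symm
  have hNn : ∀ y ∈ N, y * n = n * y := fun y hy => hNab y hy n hnN
  have hNL : N ≤ normalizer (ln (h.line3 t) : Set G) := by
    intro y hy
    have h1 := hNr y hy
    have h2 := hNn y hy
    refine BTwo.mem_normalizer_of_conj fun v hv => ?_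
    have hc : y * v = v * y := by
      rcases hv with e | ⟨i, e⟩
      · rw [e, mul_one, one_mul]
      · fin_cases i
        · have e' : v = n := by rw [hn]; exact e
          rw [e']; exact h2
        · have e' : v = r := by rw [hr]; exact e
          rw [e']; exact h1
        · have e' : v = n * r := by rw [hn, hr]; exact e
          rw [e', ← mul_assoc, h2, mul_assoc, h1, mul_assoc]
    rw [hc, mul_inv_cancel_right]; exact hv
  have hNT : N ≤ T := by
    have h1 : IsPGroup 2 (T ⊔ N : Subgroup G) :=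
      IsPGroup.to_sup_of_normal_right' hTp ((o2_isPGroup _).to_le (hNZ.trans (zc_le _))) (hTp'.trans hCN)
    exact le_sup_right.trans (hmax _ h1 le_sup_left (sup_le hTN hNL))
  -- the components of `κ`
  obtain ⟨v₀, hv₀, d₀, hd₀, hvT, hdT, e0⟩ := h.zc_tn_dec F hx zv hkt
  have h00 : E M v₀ x = 0 := by
    obtain ⟨w, hw, hwp⟩ := h.par t.pr t.n2
    have hwQ := h.KK_le t.pr t.n2 hw
    have hwP := h.Qle t.pr t.n2 hwQ
    have hwX : w ∈ h.XK t := le_iSup (fun i => KK (dd (pr M x (μ x)) (pr M x (x.1, 0)) i)) 1 hw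
    have h1 := hkX w hwX
    have h2 : w * d₀ = d₀ * w := (mem_DD.1 hd₀).2 w hwP fun q => by rw [hwp]; exact swap_fst_eq t.pr q
    have h3 : w * v₀ = v₀ * w := by
      rw [e0] at h1
      have h4 : w * v₀ * d₀ = v₀ * w * d₀ := by
        calc w * v₀ * d₀ = w * (v₀ * d₀) := by group
          _ = v₀ * (d₀ * w) := by rw [h1]; group
          _ = v₀ * w * d₀ := by rw [← h2]; group
      exact mul_right_cancel h4
    have h4 := (h.comm_iff hwP hv₀).1 h3 x
    rw [hwp, Equiv.swap_apply_left, h.fix_zero F hx hv₀ hvT x.1] at h4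
    exact h4.symm
  -- **(5)**
  have h5 : ∀ y ∈ N, y ∈ tn S M μ x → pp M y = 1 ∨ pp M y = Equiv.swap x (μ x) := by
    intro y hy hyt
    refine h.syl_five F hx hv₀ hd₀ hvT hdT h00 hNab (fun s hs a ha => ?_) hy hyt
    rw [← e0, ← hn, ← hp] at hs
    exact (mem_normalizer_iff.1 (hCN (mem_centralizer_singleton_iff.2 hs)) a).1 ha
  -- **(6)**
  have h6 : N ≤ tn S M μ x := h.syl_six F hx zv hTT hTp hTa hNT (hTT.trans (hTp'.trans hCN))
    (fun y hy => by rw [← hr]; exact hNr y hy) h5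
  -- **(7)**
  have hp' : pr M x (μ x) * κ = p := by rw [hp, hn]
  refine h.syl_seven F hx zv hkt hk1 hkX hkQ hgk hga hgb (N := N) (by rw [← hn]; exact hnN) ?_ ?_ ?_
  · rw [hp']; exact hNZ.trans ((zc_le _).trans (o2_le _))
  · rw [hp']; exact hCN
  · intro v hv hE d hd y hy
    exact h.comm_perp' F hx (h.SP (h6 hy).1) (h5 y hy (h6 hy)) hv hE hd

end Fw

end Cfsg.Agent.Omega.IId.SymWrD.Hw

end

section


/-!
# THEOREM SYL^ (bb OMEGA #21666, helper916; refereed #21848)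

`h : Fw S P V D M` (no partner), `4 ≤ |Ω₁Z(S)|`, `L_0 = {1, n, 10, 20}`, `n = x μ(x)`, `T = C_S(n)`.
* `Fw.syl_hat` : a Sylow 2-subgroup `T^ ≥ T` of `N_G(L_0)` lies in `C_G(n)` and has odd index there;
* `Fw.exists_hat` : `T^` exists.
-/

set_option autoImplicit false
set_option linter.unusedSectionVars false

namespace Cfsg.Agent.Omega.IId.SymWrD.Hw

open Subgroup Cfsg Cfsg.Agent.Omega.MinPar Cfsg.Agent.Omega.FFThm
open Cfsg.Agent.ZN (o2 zc)
open Cfsg.Agent.Omega.Half.SymA (Pt E Mv pm)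
open Cfsg.Agent.Omega.HT.LineOf (Ln ln pts dd)
open Cfsg.Agent.Omega.IId.Triangle (KK mem_KK KK_conj)
open Ht (DD mem_DD Fr Tri tn)

universe u

variable {G : Type u} [Group G] [Finite G] {k m : ℕ}

namespace Fw

variable {S : Sylow 2 G} {P V D : Subgroup G} {M : SymK (S : Subgroup G) P V ⊥ k m} (h : Fw S P V D M)
  {μ ν : Equiv.Perm (Pt k m)} (F : Fours M μ ν) {x : Pt k m} (hx : x.2 ≠ 0)
  (zv : zc (o2 P) ≤ V ⊔ DD M)
include h F hx zv

/-- **THEOREM SYL^** -/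
theorem syl_hat (h4 : 4 ≤ Nat.card (zc (S : Subgroup G))) {T : Subgroup G} (hTT : tn S M μ x ≤ T)
    (hTp : IsPGroup 2 T) (hTN : T ≤ normalizer (ln (h.line3 (h.tri F hx)) : Set G))
    (hodd : ¬ 2 ∣ T.relIndex (normalizer (ln (h.line3 (h.tri F hx)) : Set G))) :
    T ≤ centralizer ({pr M x (μ x)} : Set G) ∧ ¬ 2 ∣ T.relIndex (centralizer ({pr M x (μ x)} : Set G)) := by
  refine ⟨h.T_le_cen F hx hTT hTp hTN, fun hneg => ?_⟩
  obtain ⟨k, hk, hk1, hkX, g, hgk, hga, hgb⟩ := h.exists_k F hx zv hTT hTp hTN h4 hodd hneg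
  have C := h.cf F hx zv hTT hTp hTN hodd
  exact h.syl_end F hx zv hTT hTp (fun R hR hTR hRN => C.max hR hTR hRN) hTN hk hk1 hkX hgk hga hgb

/-- `T^` exists. -/
theorem exists_hat (h4 : 4 ≤ Nat.card (zc (S : Subgroup G))) : ∃ T : Subgroup G, tn S M μ x ≤ T ∧ IsPGroup 2 T ∧
    T ≤ normalizer (ln (h.line3 (h.tri F hx)) : Set G) ∧ T ≤ centralizer ({pr M x (μ x)} : Set G) ∧
    ¬ 2 ∣ T.relIndex (centralizer ({pr M x (μ x)} : Set G)) ∧
    ∀ t ∈ T, t * pr M x (x.1, 0) * t⁻¹ = pr M x (x.1, 0) ∨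
      t * pr M x (x.1, 0) * t⁻¹ = pr M x (x.1, 0) * pr M x (μ x) := by
  obtain ⟨T, hTT, hTN, hTp, hodd⟩ := HT.exists_syl (S := tn S M μ x)
    (P := normalizer (ln (h.line3 (h.tri F hx)) : Set G)) (S.isPGroup'.to_le inf_le_left) (h.tn_norm F hx)
  obtain ⟨h1, h2⟩ := h.syl_hat F hx zv h4 hTT hTp hTN hodd
  refine ⟨T, hTT, hTp, hTN, h1, h2, fun t ht => ?_⟩
  have C := h.cf F hx zv hTT hTp hTN hodd
  rcases C.act_T ht with e | e
  · exact Or.inl e
  · right; rw [e]; exact (h.line3 (h.tri F hx)).comm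

end Fw

end Cfsg.Agent.Omega.IId.SymWrD.Hw

end

end

-- merged: Cfsg.Agent.Mrg.Omega.HT.SylExit
section

/-!
# II.0h1, `q = 2`, over a 2-group `T`: `|Z₀| ≤ 2` implies that `T` is a Sylow 2-subgroup of `G`; the position `Pos`

`b : HTT T P V R o`, `Z₀ = Ω₁Z(T) ⊓ C(P)`, `S` a Sylow 2-subgroup of `G` with `|Ω₁Z(S)| ≥ 4`.

* `exists_sylow` : `|Z₀| ≤ 2` ⟹ `T` is a Sylow 2-subgroup;
* `ht_of` : `HTT` over a Sylow group gives `HT`; `reindex` : the points indexed by `ULift ι`;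
* `exists_pos` : the position `HTwo.Entry.Pos`, indexed by `ULift ι`.
-/

set_option autoImplicit false
set_option linter.unusedSectionVars false

namespace Cfsg.Agent.Omega.HT.SylExit

open Subgroup Cfsg Cfsg.Agent.ZN Cfsg.Agent.Omega.BTwo
open Cfsg.Agent.Omega.MinPar Cfsg.Agent.Omega.HT
open Cfsg.Agent.Omega.HTwo.Entry (Pos)

universe u v w

variable {G : Type u} [Group G] {ι : Type v} {T P V : Subgroup G} {R : ι → Subgroup G} {o : ι}

/-- `|A ⊔ B| ≤ |A| |B|` for commuting subgroups -/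
theorem card_sup_le [Finite G] {A B : Subgroup G} (h : ∀ a ∈ A, ∀ b ∈ B, a * b = b * a) :
    Nat.card (A ⊔ B : Subgroup G) ≤ Nat.card A * Nat.card B := by
  have hn : B ≤ normalizer (A : Set G) := by
    intro b hb
    refine centralizer_le_normalizer _ (mem_centralizer_iff.2 fun a ha => h a ha b hb)
  have hs : Function.Surjective fun p : A × B => (⟨(p.1 : G) * p.2, mul_mem_sup p.1.2 p.2.2⟩ : (A ⊔ B : Subgroup G)) := by
    rintro ⟨x, hx⟩
    rw [← SetLike.mem_coe, coe_mul_of_right_le_normalizer_left _ _ hn] at hx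
    obtain ⟨a, ha, b, hb, rfl⟩ := hx
    exact ⟨(⟨a, ha⟩, ⟨b, hb⟩), rfl⟩
  have h1 := Nat.card_le_card_of_surjective _ hs
  rwa [Nat.card_prod] at h1

/-- **`|Z₀| ≤ 2` : `T` is a Sylow 2-subgroup** -/
theorem exists_sylow [Finite G] (b : HTT T P V R o)
    (h1 : ∀ x ∈ zc T ⊓ centralizer (P : Set G), ∀ y ∈ zc T ⊓ centralizer (P : Set G), x ≠ 1 → y ≠ 1 → x = y)
    (S : Sylow 2 G) (h4 : 4 ≤ Nat.card (zc (S : Subgroup G))) : ∃ S' : Sylow 2 G, (S' : Subgroup G) = T := by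
  classical
  obtain ⟨S', hS'⟩ := b.S_p.exists_le_sylow
  refine ⟨S', ?_⟩
  -- a 2-group containing `T` and normalising `R o` is `T`
  have key : ∀ Y : Subgroup G, IsPGroup 2 Y → T ≤ Y → Y ≤ normalizer (R o : Set G) → T = Y := fun Y hY h2 h3 =>
    eq_of_le_of_card_ge h2 (Nat.le_of_dvd Nat.card_pos (HT.card_dvd_card b.S_R b.S_odd hY h3))
  -- `Ω₁Z(S') ≤ Ω₁Z(T)`
  have hZ : zc (S' : Subgroup G) ≤ zc T := by
    intro z hz
    have hz' := mem_zc.1 hz
    have e : T = T ⊔ zpowers z := by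
      refine key _ (S'.isPGroup'.to_le (sup_le hS' (by rw [zpowers_le]; exact hz'.1))) le_sup_left
        (sup_le b.S_R ?_)
      rw [zpowers_le]
      refine centralizer_le_normalizer _ (mem_centralizer_iff.2 fun r hr => ?_)
      exact hz'.2.1 r (hS' (b.V_le_S (b.R_le o hr)))
    have hzT : z ∈ T := e.symm.le (mem_sup_right (mem_zpowers z))
    exact mem_zc.2 ⟨hzT, fun s hs => hz'.2.1 s (hS' hs), hz'.2.2⟩
  -- `|Ω₁Z(T)| ≤ 4`
  have hZ0 : Nat.card (zc T ⊓ centralizer (P : Set G) : Subgroup G) ≤ 2 := by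
    by_contra hcon
    push Not at hcon
    obtain ⟨x, hx, y, hy, hx1, hy1, hxy⟩ : ∃ x ∈ zc T ⊓ centralizer (P : Set G),
        ∃ y ∈ zc T ⊓ centralizer (P : Set G), x ≠ 1 ∧ y ≠ 1 ∧ x ≠ y := by
      by_contra hc
      push Not at hc
      have hinj : Function.Injective fun g : (zc T ⊓ centralizer (P : Set G) : Subgroup G) =>
          (if (g : G) = 1 then true else false) := by
        intro g g' hgg
        change (if (g : G) = 1 then true else false) = (if (g' : G) = 1 then true else false) at hgg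
        by_cases hg : (g : G) = 1
        · by_cases hg' : (g' : G) = 1
          · exact Subtype.ext (hg.trans hg'.symm)
          · rw [if_pos hg, if_neg hg'] at hgg
            exact absurd hgg (by decide)
        · by_cases hg' : (g' : G) = 1
          · rw [if_neg hg, if_pos hg'] at hgg
            exact absurd hgg (by decide)
          · exact Subtype.ext (hc _ g.2 _ g'.2 hg hg')
      have h5 := Nat.card_le_card_of_injective _ hinj
      rw [Nat.card_eq_fintype_card (α := Bool), Fintype.card_bool] at h5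
      omega
    exact hxy (h1 x hx y hy hx1 hy1)
  have hc4 : Nat.card (zc T) ≤ 4 := by
    rw [b.zc_eq]
    refine (card_sup_le fun a ha c hc => ?_).trans ?_
    · exact (mem_zc.1 hc.1).2.1 a (b.V_le_S (b.R_le o ha))
    · rw [b.card_R o]
      omega
  have hS4 : 4 ≤ Nat.card (zc (S' : Subgroup G)) := by
    rwa [Half.card_zc_of_card_eq S S'.isPGroup'
      (le_antisymm (Half.card_le_sylow S S'.isPGroup') (Half.card_le_sylow S' S.isPGroup'))]
  have e : zc (S' : Subgroup G) = zc T := eq_of_le_of_card_ge hZ (hc4.trans hS4)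
  -- `S' ≤ C(r) ≤ N(R o)`
  have hR : (S' : Subgroup G) ≤ normalizer (R o : Set G) := by
    intro s hs
    refine centralizer_le_normalizer _ (mem_centralizer_iff.2 fun r hr => ?_)
    have h6 : r ∈ zc (S' : Subgroup G) := by rw [e]; exact b.R_le_zc hr
    exact ((mem_zc.1 h6).2.1 s hs).symm
  exact (key _ S'.isPGroup' hS' hR).symm

/-- `HTT` over a Sylow 2-subgroup gives `HT` -/
theorem ht_of {S : Sylow 2 G} (b : HTT (S : Subgroup G) P V R o) : HOneTwo.HT S P V R o where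
  toBT := b.toBT
  card_R := b.card_R
  char2 := b.char2
  S_V := b.S_V
  S_R := b.S_R
  S_P := b.S_P
  P_V := b.P_V
  P_trans := b.P_trans
  P_Z := b.P_Z

/-- the points indexed by an equivalent type -/
theorem reindex {κ : Type w} (e : κ ≃ ι) (b : BT V R) : BT V (R ∘ e) where
  V_comm := b.V_comm
  V_sq := b.V_sq
  R_le i := b.R_le (e i)
  R_inf i j hij := b.R_inf _ _ (e.injective.ne hij)
  R_sup i j hij := b.R_sup _ _ (e.injective.ne hij)
  R_cov v hv := by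
    obtain ⟨i, hi⟩ := b.R_cov v hv
    exact ⟨e.symm i, by rw [Function.comp_apply, Equiv.apply_symm_apply]; exact hi⟩
  R_ne i := b.R_ne (e i)
  third i j := by
    obtain ⟨k, h1, h2⟩ := b.third (e i) (e j)
    exact ⟨e.symm k, fun h => h1 (by rw [← h, Equiv.apply_symm_apply]),
      fun h => h2 (by rw [← h, Equiv.apply_symm_apply])⟩
  perm g hg i := by
    obtain ⟨j, hj⟩ := b.perm g hg (e i)
    exact ⟨e.symm j, by rw [Function.comp_apply, Function.comp_apply, Equiv.apply_symm_apply]; exact hj⟩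
  V_Q i := b.V_Q (e i)
  QV i := b.QV (e i)
  QR i := b.QR (e i)
  mt i := by
    obtain ⟨h, hh, H⟩ := b.mt (e i)
    exact ⟨h, hh, fun j k hj hk => H (e j) (e k) (e.injective.ne hj) (e.injective.ne hk)⟩

theorem reindexHT {S : Sylow 2 G} {κ : Type w} (e : κ ≃ ι) {o' : κ} (ho : e o' = o) (b : HOneTwo.HT S P V R o) :
    HOneTwo.HT S P V (R ∘ e) o' where
  toBT := reindex e b.toBT
  card_R i := b.card_R (e i)
  char2 := b.char2
  S_V := b.S_V
  S_R := by rw [Function.comp_apply, ho]; exact b.S_R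
  S_P := b.S_P
  P_V := b.P_V
  P_trans i := by
    rw [Function.comp_apply, Function.comp_apply, ho]
    exact b.P_trans (e i)
  P_Z := b.P_Z

/-- **the position**, indexed by `ULift ι` -/
theorem exists_pos [Finite G] {S' : Sylow 2 G} (b : HTT (S' : Subgroup G) P V R o) (S : Sylow 2 G)
    (h4 : 4 ≤ Nat.card (zc (S : Subgroup G))) :
    ∃ (κ : Type (max w v)) (R' : κ → Subgroup G) (o' : κ) (r z : G), Pos S' P V R' o' r z := by
  have hS4 : 4 ≤ Nat.card (zc (S' : Subgroup G)) := by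
    rwa [Half.card_zc_of_card_eq S S'.isPGroup'
      (le_antisymm (Half.card_le_sylow S S'.isPGroup') (Half.card_le_sylow S' S.isPGroup'))]
  obtain ⟨r, hr1, hrr, hr⟩ := b.exists_gen o
  have hne : zc (S' : Subgroup G) ⊓ centralizer (P : Set G) ≠ ⊥ := by
    intro h0
    rw [b.zc_eq, h0, sup_bot_eq, b.card_R o] at hS4
    omega
  obtain ⟨⟨z, hz⟩, hz1⟩ := Subgroup.ne_bot_iff_exists_ne_one.1 hne
  exact ⟨ULift.{w} ι, R ∘ Equiv.ulift, ⟨o⟩, r, z, { reindexHT Equiv.ulift rfl (ht_of b) with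
    r_ne := hr1, r_sq := hrr, r_iff := hr, z_mem := hz, z_ne := fun e => hz1 (Subtype.ext e) }⟩

end Cfsg.Agent.Omega.HT.SylExit

end

-- merged: Cfsg.Agent.Mrg.Omega.IId.SymWrD.Ht.HatEnd
section

/-!
# II.d, `SwCv`, T-T, `D` arbitrary: the end over `T̂` (bb OMEGA #21666, #21945, #22558 (5))

`T̂ ≥ T = C_S(n)` a Sylow 2-subgroup of `C_G(n)` normalising the line `{1, n, 10, 20}`, `|Ω₁Z(S)| ≥ 4`.

* `zv` : `Ω₁Z(O₂(P)) ≤ V ⊔ DD M`; `sg_mul_ne` : `σ d ≠ 1`;
* `yv_three` : `YV` at `z* d`, `3 ≤ m` (helper573);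
* `exists_hat` : `T̂` from any subgroup of odd index in `C_G(n)` normalising the line;
* `hsig_of`, `yv_two` : `YV` at `z* d`, `m = 2` (helper666, helper971);
* `exists_pos` : from `HTT`, `OtD`, `LE` over `T̂` and `YV` at all `z* d`: `T̂` is a Sylow 2-subgroup of `G`, and the
  position `HTwo.Entry.Pos` over it; `exists_pos'` : all inputs inserted, `D ≠ 1`.
-/

set_option autoImplicit false
set_option linter.unusedSectionVars false

namespace Cfsg.Agent.Omega.IId.SymWrD.Ht.HatEnd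

open Subgroup Cfsg Cfsg.Agent.Omega.MinPar Cfsg.Agent.Omega.FFThm
open Cfsg.Agent.ZN (o2 zc)
open Cfsg.Agent.Omega.Half (Amb amb_of_loc)
open Cfsg.Agent.Omega.Half.SymA (Pt E Mv pm)
open Cfsg.Agent.Omega.HT.LineOf (Ln ln pts dd)
open Cfsg.Agent.Omega.BTwo (BT XX WW QQ O2)
open Cfsg.Agent.Omega.HTwo.Hat (ZQ)
open Cfsg.Agent.Omega.IId.SymWrD.Ht
open Cfsg.Agent.MinSimple.VModule (le_normalizer_o2 o2_isPGroup o2_le mem_zc zc_le)

universe u

variable {G : Type u} [Group G] [Finite G] {k m : ℕ} {S : Sylow 2 G} {P V D : Subgroup G}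
  {M : SymK (S : Subgroup G) P V ⊥ k m} (h : Fr S P V D M)
include h

/-- `Ω₁Z(O₂(P)) ≤ V ⊔ DD M` -/
theorem zv : zc (o2 P) ≤ V ⊔ DD M := by
  obtain ⟨p, q, hpq, hne, -⟩ := h.par
  obtain ⟨w, hw, -, hwp⟩ := h.exists_w hpq hne
  have hT : TD S P V M := TD.of_sitD h.char2 h.toSitD ⟨p, q, hpq, hne, w, hw, hwp⟩
  intro z hz
  obtain ⟨v, hv, d, hd, rfl, hd1, -⟩ := hT.zvD hz
  exact mul_mem_sup hv (mem_DD.2 ⟨hd, hd1⟩)

/-- `D ≤ DD M` -/
theorem D_le_DD : D ≤ DD M := fun d hd => mem_DD.2 ⟨h.DZ hd, fun g hg _ => h.cenD g hg d hd⟩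

variable {μ ν : Equiv.Perm (Pt k m)} (F : Fours M μ ν) {x : Pt k m} (hx : x.2 ≠ 0)
include F hx

/-- `σ d ≠ 1` -/
theorem sg_mul_ne {d : G} (hd : d ∈ DD M) : (sg h.toSit x.1).val * d ≠ 1 := by
  intro e
  have h1 : (sg h.toSit x.1).val = 1 := by
    refine h.eq_one_of_DD (sg_mem h.toSit x.1) ?_
    rw [eq_inv_of_mul_eq_one_left e]
    exact inv_mem hd
  have h2 := E_sg h.toSit x.1 x
  rw [h1, Half.SymA.E_one, if_pos rfl, if_neg hx] at h2
  exact zero_ne_one h2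

/-- **`YV` at `z* d`, `3 ≤ m`** -/
theorem yv_three (h3 : 3 ≤ m) {d : G} (hd : d ∈ DD M) :
    HT.Main.YV (ln (h.line3 (h.tri F hx))) (pr M x (μ x)) ((sg h.toSit x.1).val * pr M x (μ x) * d) :=
  h.yv_of F hx hd fun _ hg _ hv =>
    RD.esigD h.toSit h.char2 (zv h) h3 x.1 hd (sg_mul_ne h F hx hd) hg (h.VZ hv) (h.VZ (pr_mem M x (μ x)))

/-- `Sig` for the elements centralising the line -/
theorem hsig_of {c : G} (hs : HT.Sig (ln (h.line3 (h.tri F hx))) (pts (pr M x (μ x)) (pr M x (x.1, 0))) 0 c) {g : G}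
    (hg : g * pr M x (μ x) = pr M x (μ x) * g) (hg' : g * pr M x (x.1, 0) = pr M x (x.1, 0) * g) :
    c⁻¹ * (g * c * g⁻¹) = 1 ∨ c⁻¹ * (g * c * g⁻¹) = pr M x (μ x) := by
  have t := h.tri F hx
  have hgN : g ∈ normalizer (pts (pr M x (μ x)) (pr M x (x.1, 0)) 0 : Set G) := by
    rw [(h.line3 t).normalizer_pts 0]
    exact mem_centralizer_singleton_iff.2 hg
  have hcom : ∀ v ∈ ln (h.line3 t), g * v = v * g := by
    rintro v (rfl | ⟨i, rfl⟩)
    · rw [mul_one, one_mul]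
    · fin_cases i
      · exact hg
      · exact hg'
      · change g * (pr M x (μ x) * pr M x (x.1, 0)) = pr M x (μ x) * pr M x (x.1, 0) * g
        rw [← mul_assoc, hg, mul_assoc, hg', mul_assoc]
  have hcond : ∀ v ∈ ln (h.line3 t), g * v * g⁻¹ ∈ ln (h.line3 t) ⊔
      ZQ (pts (pr M x (μ x)) (pr M x (x.1, 0))) 0 := fun v hv => by
    rw [hcom v hv, mul_inv_cancel_right]
    exact mem_sup_left hv
  have hv0 : pr M x (x.1, 0) ∉ pts (pr M x (μ x)) (pr M x (x.1, 0)) 0 := by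
    rw [(h.line3 t).mem_pts]
    rintro (e | e)
    · exact h.pr_ne t.pr t.n2 e
    · have e1 : pr M x (x.1, 0) = pr M x (μ x) := e
      exact (h.line3 t).ne e1.symm
  have h1 := hs g hgN hcond _ ((h.line3 t).dd_mem 1) hv0
  have h2 : (pr M x (x.1, 0) * c)⁻¹ * g * (pr M x (x.1, 0) * c) * g⁻¹ = c⁻¹ * (g * c * g⁻¹) := by
    calc (pr M x (x.1, 0) * c)⁻¹ * g * (pr M x (x.1, 0) * c) * g⁻¹ =
        c⁻¹ * ((pr M x (x.1, 0))⁻¹ * (g * pr M x (x.1, 0)) * c * g⁻¹) := by group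
      _ = c⁻¹ * (g * c * g⁻¹) := by rw [hg', inv_mul_cancel_left]
  have h3 : (pr M x (x.1, 0) * c)⁻¹ * g * (pr M x (x.1, 0) * c) * g⁻¹ ∈
      pts (pr M x (μ x)) (pr M x (x.1, 0)) 0 := h1
  rw [h2, (h.line3 t).mem_pts] at h3
  exact h3

/-- **`YV` at `z* d`, `m = 2`** -/
theorem yv_two (hm2 : m = 2) {d : G} (hd : d ∈ DD M) (hdT : ∀ s ∈ tn S M μ x, s * d = d * s)
    (hs : HT.Sig (ln (h.line3 (h.tri F hx))) (pts (pr M x (μ x)) (pr M x (x.1, 0))) 0
      ((sg h.toSit x.1).val * pr M x (μ x) * d)) {e : G} (he : e ∈ DD M) (he1 : e ≠ 1) :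
    HT.Main.YV (ln (h.line3 (h.tri F hx))) (pr M x (μ x)) ((sg h.toSit x.1).val * pr M x (μ x) * d) := by
  have hO := AlphaA.o2_le_S0 (SD.of_fr h) (zv h) F hm2 hx hd
    (fun s hs hc => hdT s ⟨hs, mem_centralizer_singleton_iff.2 hc⟩) (fun g hg hg' => hsig_of h F hx hs hg hg')
  exact h.yv_of F hx hd fun g hg v hv => RB.esigD_two h.toSit h.char2 (zv h) x.1 hd (sg_mul_ne h F hx hd) hO he he1
    hg hv (pr_mem M x (μ x))

/-- **`T̂`** from a subgroup of odd index in `C_G(n)` which normalises the line -/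
theorem exists_hat {T' : Subgroup G} (hT' : T' ≤ centralizer ({pr M x (μ x)} : Set G))
    (hodd : ¬ 2 ∣ T'.relIndex (centralizer ({pr M x (μ x)} : Set G)))
    (ht : ∀ t ∈ T', t * pr M x (x.1, 0) * t⁻¹ = pr M x (x.1, 0) ∨
      t * pr M x (x.1, 0) * t⁻¹ = pr M x (x.1, 0) * pr M x (μ x)) :
    ∃ T : Subgroup G, tn S M μ x ≤ T ∧ IsPGroup 2 T ∧ T ≤ normalizer (ln (h.line3 (h.tri F hx)) : Set G) ∧
      T ≤ centralizer ({pr M x (μ x)} : Set G) ∧ ¬ 2 ∣ T.relIndex (centralizer ({pr M x (μ x)} : Set G)) := by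
  have t3 := h.tri F hx
  have h1 : T' ≤ centralizer ({pr M x (μ x)} : Set G) ⊓ normalizer (ln (h.line3 t3) : Set G) := by
    refine le_inf hT' fun t htT => BTwo.mem_normalizer_of_conj ?_
    have e0 : t * pr M x (μ x) * t⁻¹ = pr M x (μ x) := by
      rw [mem_centralizer_singleton_iff.1 (hT' htT), mul_inv_cancel_right]
    have aa := (h.line3 t3).aa
    have m0 : pr M x (μ x) ∈ ln (h.line3 t3) := (h.line3 t3).dd_mem 0
    have m1 : pr M x (x.1, 0) ∈ ln (h.line3 t3) := (h.line3 t3).dd_mem 1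
    have e1 : t * pr M x (x.1, 0) * t⁻¹ ∈ ln (h.line3 t3) := by
      rcases ht t htT with e | e
      · rw [e]; exact m1
      · rw [e]; exact mul_mem m1 m0
    rintro y (rfl | ⟨i, rfl⟩)
    · rw [mul_one, mul_inv_cancel]; exact one_mem _
    · fin_cases i
      · change t * pr M x (μ x) * t⁻¹ ∈ _
        rw [e0]; exact m0
      · exact e1
      · change t * (pr M x (μ x) * pr M x (x.1, 0)) * t⁻¹ ∈ _
        have e2 : t * (pr M x (μ x) * pr M x (x.1, 0)) * t⁻¹ =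
            (t * pr M x (μ x) * t⁻¹) * (t * pr M x (x.1, 0) * t⁻¹) := by group
        rw [e2, e0]
        exact mul_mem m0 e1
  obtain ⟨T, hT1, hT2, hT3, hT4⟩ := HT.exists_syl (S := tn S M μ x)
    (P := centralizer ({pr M x (μ x)} : Set G) ⊓ normalizer (ln (h.line3 t3) : Set G)) Fr.tn_p
    (le_inf inf_le_right (h.tn_norm F hx))
  refine ⟨T, hT1, hT3, hT2.trans inf_le_right, hT2.trans inf_le_left, fun hd => ?_⟩
  rw [← relIndex_mul_relIndex _ _ _ hT2 inf_le_left] at hd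
  rcases (Nat.Prime.dvd_mul Nat.prime_two).1 hd with h2 | h2
  · exact hT4 h2
  · apply hodd
    rw [← relIndex_mul_relIndex _ _ _ h1 inf_le_left]
    exact h2.mul_left _

/-- **The end over `T̂`.** -/
theorem exists_pos {T : Subgroup G} (hTT : tn S M μ x ≤ T)
    (b : HT.HTT T (T ⊔ h.X3 (h.tri F hx)) (ln (h.line3 (h.tri F hx))) (pts (pr M x (μ x)) (pr M x (x.1, 0))) 0)
    (h1 : HT.OtCore.OtD T (ln (h.line3 (h.tri F hx))) (XX (ln (h.line3 (h.tri F hx)))
      (pts (pr M x (μ x)) (pr M x (x.1, 0)))) (pr M x (μ x)))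
    (hLE : ∀ i, HTwo.ThmA.LE (ln (h.line3 (h.tri F hx))) (pts (pr M x (μ x)) (pr M x (x.1, 0))) i)
    (hy : ∀ d ∈ DD M, (∀ s ∈ tn S M μ x, s * d = d * s) →
      HT.Sig (ln (h.line3 (h.tri F hx))) (pts (pr M x (μ x)) (pr M x (x.1, 0))) 0
        ((sg h.toSit x.1).val * pr M x (μ x) * d) →
      HT.Main.YV (ln (h.line3 (h.tri F hx))) (pr M x (μ x)) ((sg h.toSit x.1).val * pr M x (μ x) * d))
    (h4 : 4 ≤ Nat.card (zc (S : Subgroup G))) :
    ∃ S' : Sylow 2 G, (S' : Subgroup G) = T ∧ ∃ (P' V' : Subgroup G) (κ : Type u) (R' : κ → Subgroup G) (o' : κ)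
      (r z : G), HTwo.Entry.Pos S' P' V' R' o' r z := by
  have hr : ∀ y, y ∈ pts (pr M x (μ x)) (pr M x (x.1, 0)) 0 ↔ y = 1 ∨ y = pr M x (μ x) := fun _ =>
    (h.line3 (h.tri F hx)).mem_pts
  have h0 := HT.EndCore.main b hLE hr h1 fun _ c hc hs => by
    obtain ⟨d, hd, hdT, e⟩ := h.sig_eq F hx (zv h) (h.Z0_le F hx hTT hc) hs
    have hc1 : c ≠ 1 := by rw [e]; exact h.zst_ne' F hx hd
    refine ⟨c, hc, hc1, Or.inr rfl, ?_⟩
    exact HT.AlphaY.not_alpha b hr hLE hc hc1 (HT.Main.gsys_of_core b hr hc hc1 (HT.EndCore.core b hr h1 hc))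
      (by rw [e]; exact hy d hd hdT (by rw [← e]; exact hs))
  obtain ⟨S', hS'⟩ := HT.SylExit.exists_sylow b h0 S h4
  refine ⟨S', hS', ?_⟩
  subst hS'
  obtain ⟨κ, R', o', r, z, hp⟩ := HT.SylExit.exists_pos.{u, 0, u} b S h4
  exact ⟨_, _, κ, R', o', r, z, hp⟩

/-- **The end over `T̂`**, `D ≠ 1`. -/
theorem exists_pos' (hD : D ≠ ⊥) (hk : 2 ≤ k ∨ 3 ≤ m) (h4 : 4 ≤ Nat.card (zc (S : Subgroup G))) {T : Subgroup G}
    (hTT : tn S M μ x ≤ T) (hTp : IsPGroup 2 T) (hTN : T ≤ normalizer (ln (h.line3 (h.tri F hx)) : Set G))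
    (hTa : T ≤ centralizer ({pr M x (μ x)} : Set G))
    (syl : ¬ 2 ∣ T.relIndex (centralizer ({pr M x (μ x)} : Set G))) :
    ∃ S' : Sylow 2 G, (S' : Subgroup G) = T ∧ ∃ (P' V' : Subgroup G) (κ : Type u) (R' : κ → Subgroup G) (o' : κ)
      (r z : G), HTwo.Entry.Pos S' P' V' R' o' r z := by
  obtain ⟨⟨e, he⟩, he1⟩ := Subgroup.ne_bot_iff_exists_ne_one.1 hD
  have he1' : e ≠ 1 := fun h0 => he1 (Subtype.ext h0)
  refine exists_pos h F hx hTT (h.httT F hx hTT (zv h) hTp hTN hTa syl) (h.otD F hx hTT (zv h) hTp hTN hTa syl)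
    (fun j => LEHat.le_hat h F hx (zv h) hk hTT hTp hTN hTa syl j) (fun d hd hdT hs => ?_) h4
  rcases Nat.lt_or_ge 2 m with h3 | h3
  · exact yv_three h F hx h3 hd
  · exact yv_two h F hx (le_antisymm h3 h.hm) hd hdT hs (D_le_DD h he) he1'

end Cfsg.Agent.Omega.IId.SymWrD.Ht.HatEnd

end

-- merged: Cfsg.Agent.Mrg.Omega.IId.SwCv.TT
section

/-!
# II.d, `SwCv K`: `SwTT K` (bb OMEGA #21666, #22558 (5))

* `swTT_of_hat` : `SwTT K` from `PosExit` and `ExHat` (SYL^);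
* `swCv_of_hat` : `SwCv K` from `PosExit`, `ExHat` and the unmixed sockets.
-/

set_option autoImplicit false
set_option linter.unusedSectionVars false

namespace Cfsg.Agent.Omega.IId.SwCvC

open Subgroup Pointwise Cfsg
open Cfsg.Agent.ZN (o2 zc zl)
open Cfsg.Agent.Omega.MinPar Cfsg.Agent.Omega.Frame Cfsg.Agent.Omega.FFThm Cfsg.Agent.Omega.FrameMulti
open Cfsg.Agent.Omega.FrameFF (cv)
open Cfsg.Agent.Omega.Half.SymA (Pt)
open Cfsg.Agent.Omega.IId.SwCv (Lb FOne)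
open Cfsg.Agent.Omega.F4Leaf.Cen.Main (PosExit)

universe u

/-- **`SwTT K`** from SYL^ -/
theorem swTT_of_hat {K : Cls.{u}} (hX : PosExit.{u}) (hS : ExHat.{u}) : SwTT K := by
  intro G _ _ S hH P k m M ε hL hk hm _ _ hD h
  obtain ⟨μ, ν, F⟩ := SymWrD.exists_fours h.toSit
  obtain ⟨c, -, hc⟩ := Half.SymA.exists_third h.hm1 0 0
  obtain ⟨x, hx⟩ : ∃ x : Pt k m, x.2 ≠ 0 := ⟨(⟨0, h.hk⟩, c), hc⟩
  have h4 := four_le_zc hL (by omega : 0 < k) hD
  obtain ⟨T', hT', hodd, ht⟩ := hS G S P hL.A (cv (S : Subgroup G) P) k m hL.toBot (SymWrD.Hw.Fw.of_fr h) μ ν F x hx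
    (SymWrD.Ht.HatEnd.zv h) h4
  obtain ⟨T, hTT, hTp, hTN, hTa, syl⟩ := SymWrD.Ht.HatEnd.exists_hat h F hx hT' hodd ht
  obtain ⟨S', -, P', V', κ, R', o', r, z, hp⟩ :=
    SymWrD.Ht.HatEnd.exists_pos' h F hx hD (Or.inl hk) h4 hTT hTp hTN hTa syl
  have hH' := hH.conj S'
  exact hX G hH'.ctx S' hH'.full hH'.allIn P' V' κ R' o' r z hp

/-- **`SwCv K`** from SYL^ -/
theorem swCv_of_hat {K : Cls.{u}} (hX : PosExit.{u}) (hS : ExHat.{u}) (hPair : Cv.TTPair K) (hU : NatUn K)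
    (hFr : FreeFour K) : SwCv K :=
  swCv_of'' (swTT_of_hat hX hS) (sylHat_of_fw hS) hPair hU hFr

end Cfsg.Agent.Omega.IId.SwCvC

end

-- merged: Cfsg.Agent.Mrg.Omega.IId.SwCv.SylHatFin
section

section


/-!
# II.d, `SwCv K`: `SylHat`, `SwMixW K` are theorems (helper79; SYL^: helper916, helper48; MIX-W: helper48)
-/

set_option autoImplicit false

namespace Cfsg.Agent.Omega.IId.SwCvC

open Subgroup Cfsg
open Cfsg.Agent.ZN.ChoiceBase hiding mem_zc
open Cfsg.Agent.Omega.MinPar Cfsg.Agent.Omega.Frame Cfsg.Agent.Omega.FFThm Cfsg.Agent.Omega.FrameMulti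
open Cfsg.Agent.Omega.FrameFF (cv)

universe u

/-- **THEOREM SYL^** (helper916, helper48). -/
theorem exHat : ExHat.{u} := by
  intro G _ _ S P V D k m M h μ ν F x hx zv h4
  obtain ⟨T, -, -, -, hT, hodd, ht⟩ := h.exists_hat F hx zv h4
  exact ⟨T, hT, hodd, ht⟩

theorem sylHat : SylHat.{u} := sylHat_of_fw exHat

/-- **`SwMixW K`**. -/
theorem swMixW (K : Cls.{u}) : SwMixW K := swMixW_of sylHat K

/-- **`SwCv K` from the case T-T.** -/
theorem swCv_of_tt {K : Cls.{u}} (hTT : SwTT K) (hPair : Cv.TTPair K) (hU : NatUn K) (hFr : FreeFour K) : SwCv K :=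
  swCv_of' hTT (swMixW K) hPair hU hFr

end Cfsg.Agent.Omega.IId.SwCvC

end

section


/-!
# II.d, `SwCv K`: case T-T modulo `PosExit` (plug over TT.lean (774) and SylHatFin.lean (79))

* `swTT : PosExit → SwTT K`; `swCv : PosExit → TTPair K → NatUn K → FreeFour K → SwCv K`.
-/

set_option autoImplicit false

namespace Cfsg.Agent.Omega.IId.SwCvC

open Subgroup Pointwise Cfsg
open Cfsg.Agent.ZN (o2 zc zl)
open Cfsg.Agent.Omega.MinPar Cfsg.Agent.Omega.Frame Cfsg.Agent.Omega.FFThm Cfsg.Agent.Omega.FrameMulti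
open Cfsg.Agent.Omega.F4Leaf.Cen.Main (PosExit)

universe u

theorem swTT {K : Cls.{u}} (hX : PosExit.{u}) : SwTT K := swTT_of_hat hX exHat

theorem swCv {K : Cls.{u}} (hX : PosExit.{u}) (hPair : Cv.TTPair K) (hU : NatUn K) (hFr : FreeFour K) : SwCv K :=
  swCv_of_hat hX exHat hPair hU hFr

end Cfsg.Agent.Omega.IId.SwCvC

end

end
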